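import Cfsg.Agent.S4458
import Cfsg.Agent.CharInduce.Gallagher
import Cfsg.Agent.H35.DegreeIndex

/-!
# Groups with three character degrees: basic lemmas
-/

set_option linter.style.haveILetI false
set_option linter.unusedSectionVars false

namespace Cfsg.Agent.H30.ThreeDegrees

open scoped ComplexConjugate commutatorElement
open Cfsg.Agent

universe u

variable {G : Type u} [Group G] [Finite G]

/-- All the degrees of irreducible characters are `1`, `a` or `b`. -/
def DegreesAmong (G : Type u) [Group G] (a b : ℕ) : Prop :=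
  ∀ χ : Cfsg.IrrCharacter G, Cfsg.charDegree (χ : G → ℂ) = 1 ∨
    Cfsg.charDegree (χ : G → ℂ) = a ∨ Cfsg.charDegree (χ : G → ℂ) = b

theorem DegreesAmong.symm {a b : ℕ} (h : DegreesAmong G a b) : DegreesAmong G b a :=
  fun χ => (h χ).imp_right Or.symm

theorem DegreesAmong.quotient {a b : ℕ} (h : DegreesAmong G a b) (N : Subgroup G) [N.Normal] :
    DegreesAmong (G ⧸ N) a b := fun χ => by
  have := h (H84.inflateIrr N χ)
  rwa [H84.charDegree_inflateIrr] at this

theorem apply_one (χ : Cfsg.IrrCharacter G) :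
    (χ : G → ℂ) 1 = (Cfsg.charDegree (χ : G → ℂ) : ℂ) := BlockBasic.apply_one_eq_charDegree χ

theorem charDegree_pos (χ : Cfsg.IrrCharacter G) : 0 < Cfsg.charDegree (χ : G → ℂ) := by
  cases nonempty_fintype G
  refine Nat.pos_of_ne_zero fun h => CharBasic.IsIrr.one_ne_zero χ.2 ?_
  rw [apply_one, h, Nat.cast_zero]

theorem charDegree_dvd_card (χ : Cfsg.IrrCharacter G) :
    Cfsg.charDegree (χ : G → ℂ) ∣ Nat.card G := by
  cases nonempty_fintype G
  obtain ⟨n, -, hn, hd, -⟩ := CharBasic.IsIrr.degree_dvd χ.2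
  rwa [H84.charDegree_of_eq hn]

theorem exists_hom_of_linear {χ : Cfsg.IrrCharacter G} (h : Cfsg.charDegree (χ : G → ℂ) = 1) :
    ∃ l : G →* ℂˣ, ∀ g, (χ : G → ℂ) g = (l g : ℂ) := by
  cases nonempty_fintype G
  exact CharInduce.IsChar.exists_hom_of_degree_one (CharBasic.IsIrr.isCharacter χ.2)
    (by rw [apply_one, h, Nat.cast_one])

theorem linear_apply_commutator {χ : Cfsg.IrrCharacter G}
    (h : Cfsg.charDegree (χ : G → ℂ) = 1) {g : G} (hg : g ∈ commutator G) :
    (χ : G → ℂ) g = (χ : G → ℂ) 1 := by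
  obtain ⟨l, hl⟩ := exists_hom_of_linear h
  rw [hl, hl, map_one, H84.eq_one_of_mem_commutator_hom l hg]

/-- An irreducible character trivial on the derived subgroup is linear. -/
theorem charDegree_eq_one_of_commutator (χ : Cfsg.IrrCharacter G)
    (h : ∀ x ∈ commutator G, (χ : G → ℂ) x = (χ : G → ℂ) 1) :
    Cfsg.charDegree (χ : G → ℂ) = 1 := by
  cases nonempty_fintype G
  obtain ⟨ψ, -, hψ, hψi⟩ :=
    CharInduce.IsChar.exists_deflate (CharBasic.IsIrr.isCharacter χ.2) (commutator G) h
  refine H84.charDegree_of_eq ?_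
  rw [hψ, Nat.cast_one]
  exact CharBasic.commutative_iff_forall_linear.1
    (fun a b => mul_comm (G := Abelianization G) a b) ⟨ψ, hψi χ.2⟩

theorem derivedSeries_one_eq_bot (h : ∀ a b : G, a * b = b * a) : derivedSeries G 1 = ⊥ := by
  rw [derivedSeries_one, commutator_def, Subgroup.commutator_eq_bot_iff_le_centralizer]
  exact fun a _ => Subgroup.mem_centralizer_iff.2 fun b _ => h b a

theorem derivedSeries_eq_bot_of_le {m n : ℕ} (hmn : m ≤ n) (h : derivedSeries G m = ⊥) :
    derivedSeries G n = ⊥ :=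
  le_bot_iff.1 (h ▸ derivedSeries_antitone G hmn)

theorem derivedSeries_le_map (K : Subgroup G) {m j : ℕ}
    (h : derivedSeries G m ≤ (derivedSeries K j).map K.subtype) :
    ∀ i, derivedSeries G (m + i) ≤ (derivedSeries K (j + i)).map K.subtype
  | 0 => h
  | i + 1 => by
    rw [← Nat.add_assoc, ← Nat.add_assoc, derivedSeries_succ, derivedSeries_succ,
      Subgroup.map_commutator]
    exact Subgroup.commutator_mono (derivedSeries_le_map K h i) (derivedSeries_le_map K h i)

theorem derivedSeries_eq_bot_of_map (K : Subgroup G) {m j : ℕ}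
    (h : derivedSeries G m ≤ (derivedSeries K j).map K.subtype) (i : ℕ)
    (hK : derivedSeries K (j + i) = ⊥) : derivedSeries G (m + i) = ⊥ := by
  have := derivedSeries_le_map K h i
  rw [hK, Subgroup.map_bot] at this
  exact le_bot_iff.1 this

theorem derivedSeries_le_of_quotient (N : Subgroup G) [N.Normal] {n : ℕ}
    (h : derivedSeries (G ⧸ N) n = ⊥) : derivedSeries G n ≤ N := by
  have h2 := map_derivedSeries_eq (f := QuotientGroup.mk' N) (QuotientGroup.mk'_surjective N) n
  rwa [h, Subgroup.map_eq_bot_iff, QuotientGroup.ker_mk'] at h2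

/-- A group with at most two character degrees is metabelian. -/
theorem derivedSeries_two_of_degreesIn {m : ℕ} (h : H84.DegreesIn G m) :
    derivedSeries G 2 = ⊥ := by
  by_cases hex : ∃ χ : Cfsg.IrrCharacter G, Cfsg.charDegree (χ : G → ℂ) ≠ 1
  · obtain ⟨χ, hχ⟩ := hex
    have hm : Cfsg.charDegree (χ : G → ℂ) = m := (h χ).resolve_left hχ
    have hab := S4458.result m h ⟨χ, hm⟩ (hm ▸ hχ)
    rw [derivedSeries_succ, derivedSeries_one, Subgroup.commutator_eq_bot_iff_le_centralizer]
    exact fun a ha => Subgroup.mem_centralizer_iff.2 fun b hb => hab b hb a ha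
  · push Not at hex
    exact derivedSeries_eq_bot_of_le one_le_two
      (derivedSeries_one_eq_bot (H84.commutative_of_linear hex))

theorem derivedSeries_three_of_linear
    (h : ∀ χ : Cfsg.IrrCharacter G, Cfsg.charDegree (χ : G → ℂ) = 1) :
    derivedSeries G 3 = ⊥ :=
  derivedSeries_eq_bot_of_le (by norm_num)
    (derivedSeries_one_eq_bot (H84.commutative_of_linear h))

/-- Degrees above a character of a normal subgroup. -/
theorem exists_degree_above (N : Subgroup G) [N.Normal] (θ : Cfsg.IrrCharacter N) :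
    ∃ χ : Cfsg.IrrCharacter G,
      Cfsg.charDegree (θ : N → ℂ) ∣ Cfsg.charDegree (χ : G → ℂ) ∧
      Cfsg.charDegree (χ : G → ℂ) / Cfsg.charDegree (θ : N → ℂ) ∣ N.index := by
  cases nonempty_fintype G
  haveI := Fintype.ofFinite N
  obtain ⟨χ, hχ⟩ := H84.exists_irr_above (N := N) θ.2
  exact ⟨χ, H35.DegreeIndex.degree_quotient_dvd_index N χ.2 θ.2 hχ _ _ (apply_one χ)
    (apply_one θ)⟩

end Cfsg.Agent.H30.ThreeDegrees
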