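import Cfsg.Agent.H30.ThreeDegrees.Basic
import Cfsg.Agent.H34.RelativeM
import Cfsg.Agent.PGroups.Basic

/-!
# Three character degrees: a prime dividing every nonlinear degree
-/

set_option linter.style.haveILetI false
set_option linter.unusedSectionVars false

namespace Cfsg.Agent.H30.ThreeDegrees

open scoped ComplexConjugate commutatorElement
open Cfsg.Agent

universe u

variable {G : Type u} [Group G] [Finite G]

/-- Chief factors above a normal subgroup of prime power index have prime order. -/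
theorem noSquareFactor_of_index_eq_pow {p k : ℕ} [hp : Fact p.Prime] (N : Subgroup G) [N.Normal]
    (hidx : N.index = p ^ k) : H34.NoSquareFactor N := by
  intro H K L hNL hLK hKH hK hL hmax
  set L' := L.subgroupOf H with hL'
  haveI : L'.Normal := ⟨fun l hl h => hL h h.2 l hl⟩
  haveI : (K.subgroupOf H).Normal := ⟨fun l hl h => hK h h.2 l hl⟩
  set q := QuotientGroup.mk' L' with hq
  have hQ : IsPGroup p (H ⧸ L') := by
    have h1 : Nat.card (H ⧸ L') ∣ p ^ k := by
      rw [← Subgroup.index_eq_card, ← hidx]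
      exact (Subgroup.relIndex_dvd_of_le_left H hNL).trans
        (Subgroup.relIndex_dvd_index_of_normal N H)
    obtain ⟨j, -, hj⟩ := (Nat.dvd_prime_pow hp.out).1 h1
    exact IsPGroup.of_card hj
  haveI : ((K.subgroupOf H).map q).Normal :=
    Subgroup.Normal.map inferInstance q (QuotientGroup.mk'_surjective L')
  have hne : (K.subgroupOf H).map q ≠ ⊥ := by
    rw [Ne, Subgroup.map_eq_bot_iff, hq, QuotientGroup.ker_mk']
    intro h
    exact hLK.not_ge fun x hx => h (show (⟨x, hKH hx⟩ : H) ∈ K.subgroupOf H from hx)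
  have hne2 := PGroups.inf_center_ne_bot hQ _ hne
  obtain ⟨z, hz⟩ := exists_prime_orderOf_dvd_card'
    (G := ((K.subgroupOf H).map q ⊓ Subgroup.center (H ⧸ L') : Subgroup (H ⧸ L'))) p
    (PGroups.dvd_card_of_ne_bot hQ hne2)
  set Z : Subgroup (H ⧸ L') := Subgroup.zpowers (z : H ⧸ L') with hZ
  have hZcard : Nat.card Z = p := by rw [hZ, Nat.card_zpowers, Subgroup.orderOf_coe, hz]
  haveI : Z.Normal := ⟨fun n hn g => by
    have hc : n ∈ Subgroup.center (H ⧸ L') := Subgroup.zpowers_le.2 z.2.2 hn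
    rwa [Subgroup.mem_center_iff.1 hc g, mul_inv_cancel_right]⟩
  set M' := Z.comap q with hM'
  have hmapM : M'.map q = Z :=
    Subgroup.map_comap_eq_self_of_surjective (QuotientGroup.mk'_surjective L') Z
  have hL'M : L' ≤ M' := fun x hx => by
    rw [hM', Subgroup.mem_comap, hq, QuotientGroup.mk'_apply, (QuotientGroup.eq_one_iff x).2 hx]
    exact Z.one_mem
  have hM'K : M' ≤ K.subgroupOf H := by
    intro x hx
    obtain ⟨y, hy, hyx⟩ := Subgroup.zpowers_le.2 z.2.1 (Subgroup.mem_comap.1 hx)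
    rw [hq, QuotientGroup.mk'_eq_mk'] at hyx
    obtain ⟨l, hl, rfl⟩ := hyx
    exact mul_mem hy (hLK.le hl)
  have hLmap : L'.map H.subtype = L := by
    rw [hL', Subgroup.subgroupOf_map_subtype, inf_eq_left.2 (hLK.le.trans hKH)]
  rcases hmax (M'.map H.subtype) (hLmap ▸ Subgroup.map_mono hL'M)
      ((Subgroup.map_mono hM'K).trans
        (by rw [Subgroup.subgroupOf_map_subtype]; exact inf_le_left))
      (by
        rintro h hh _ ⟨m, hm, rfl⟩
        exact ⟨⟨h, hh⟩ * m * ⟨h, hh⟩⁻¹,
          (inferInstance : (Z.comap q).Normal).conj_mem m hm ⟨h, hh⟩, rfl⟩) with h | h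
  · exfalso
    have h2 : M' = L' := Subgroup.map_injective Subtype.val_injective (h.trans hLmap.symm)
    rw [h2, hq, QuotientGroup.map_mk'_self] at hmapM
    rw [← hmapM, Subgroup.card_bot] at hZcard
    exact hp.out.ne_one hZcard.symm
  · have hrel : L.relIndex K = p := by
      rw [← hLmap, ← h, Subgroup.relIndex_map_map_of_injective _ _ Subtype.val_injective]
      conv_lhs => rw [show L' = (⊥ : Subgroup (H ⧸ L')).comap q by
        rw [MonoidHom.comap_bot, hq, QuotientGroup.ker_mk']]
      rw [Subgroup.relIndex_comap, hmapM, Subgroup.relIndex_bot_left, hZcard]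
    rw [hrel]
    exact hp.out.prime.not_isSquare

/-- Taketa's step for a monomial character. -/
theorem taketa_step [Fintype G] (H : Subgroup G) (lam : H →* ℂˣ)
    (N : Subgroup G) [hNn : N.Normal]
    (hN : ∀ ψ : Cfsg.IrrCharacter G, Cfsg.charDegree (ψ : G → ℂ) < H.index →
      ∀ n ∈ N, (ψ : G → ℂ) n = (ψ : G → ℂ) 1)
    {x : G} (hx : x ∈ ⁅N, N⁆) :
    Cfsg.indFun H (fun h => (lam h : ℂ)) x = Cfsg.indFun H (fun h => (lam h : ℂ)) 1 := by
  classical
  haveI := Fintype.ofFinite H
  set θ : G → ℂ := Cfsg.indFun H (fun _ => 1) with hθ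
  have hθc : Cfsg.IsCharacter G θ := CharInduce.IsChar.ind H CharInduce.IsChar.one
  have hθ1 : Cfsg.classInner θ (fun _ : G => (1 : ℂ)) = 1 := by
    rw [hθ, CharInduce.classInner_indFun_left H _ _ (fun _ _ => rfl)]
    exact CharBasic.classInner_irr_self CharBasic.isIrrCharacter_one
  obtain ⟨r, hr, her⟩ := CharInduce.IsChar.exists_eq_add hθc CharBasic.isIrrCharacter_one
    (by rw [hθ1]; exact one_ne_zero)
  have hNH : N ≤ H := by
    intro n hn
    have hker : θ n = θ 1 := by
      rw [her, Pi.add_apply, Pi.add_apply]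
      congr 1
      rw [CharBasic.classFunction_expansion (CharBasic.IsChar.isClassFunction hr)]
      simp only [Finset.sum_apply, Pi.smul_apply]
      refine Finset.sum_congr rfl fun ψ _ => ?_
      by_cases h0 : Cfsg.classInner r (ψ : G → ℂ) = 0
      · simp [h0]
      obtain ⟨d, hd⟩ := CharBasic.IsChar.exists_degree hr
      have hle := CharInduce.IsChar.degree_le_of_constituent hr ψ.2 h0 (apply_one ψ) hd
      have hdt : H.index = 1 + d := by
        have h1 := congrFun her 1
        rw [hθ, CharInduce.indFun_one, Pi.add_apply, hd, mul_one] at h1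
        exact_mod_cast h1
      rw [hN ψ (by omega) n hn]
    by_contra hnH
    rw [hθ, CharInduce.indFun_one, mul_one] at hker
    have h0 : ∀ y : G, Cfsg.extendByZero H (fun _ => (1 : ℂ)) (y⁻¹ * n * y) =
        if y⁻¹ * n * y ∈ H then 1 else 0 := fun y => by
      split_ifs with hy
      · rw [CharInduce.extendByZero_of_mem _ hy]
      · rw [CharInduce.extendByZero_of_not_mem _ hy]
    rw [CharInduce.indFun_apply, Finset.sum_congr rfl (fun y _ => h0 y), Finset.sum_boole,
      inv_mul_eq_iff_eq_mul₀ (CharInduce.card_ne_zero_complex H), ← Nat.cast_mul,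
      H.card_mul_index, Nat.cast_inj, Nat.card_eq_fintype_card] at hker
    have := Finset.eq_univ_of_card _ hker ▸ Finset.mem_univ (1 : G)
    exact hnH (by simpa using this)
  have hall : ∀ y : G, Cfsg.extendByZero H (fun h => (lam h : ℂ)) (y⁻¹ * x * y) = 1 := by
    intro y
    have h1 : y⁻¹ * x * y ∈ ⁅N, N⁆ := by
      simpa using (inferInstance : (⁅N, N⁆).Normal).conj_mem x hx y⁻¹
    have h2 : y⁻¹ * x * y ∈ (commutator H).map H.subtype := by
      rw [Subgroup.map_subtype_commutator]
      exact Subgroup.commutator_mono hNH hNH h1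
    obtain ⟨c, hc, hce⟩ := h2
    rw [← hce, H.coe_subtype, CharInduce.extendByZero_coe,
      H84.eq_one_of_mem_commutator_hom lam hc, Units.val_one]
  rw [CharInduce.indFun_one, map_one, Units.val_one, mul_one, CharInduce.indFun_apply,
    Finset.sum_congr rfl (fun y _ => hall y), Finset.sum_const, Finset.card_univ, nsmul_eq_mul,
    mul_one, ← Nat.card_eq_fintype_card, ← H.card_mul_index, Nat.cast_mul, ← mul_assoc,
    inv_mul_cancel₀ (CharInduce.card_ne_zero_complex H), one_mul]

/-- An `M`-group with three degrees has derived length at most `3`. -/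
theorem derivedSeries_three_of_monomial [Fintype G] {a b : ℕ} (hab : a ≤ b)
    (hd : DegreesAmong G a b)
    (hmono : ∀ χ : Cfsg.IrrCharacter G, CharInduce.IsMonomial (χ : G → ℂ)) :
    derivedSeries G 3 = ⊥ := by
  classical
  have step : ∀ (χ : Cfsg.IrrCharacter G),
      ∀ (N : Subgroup G) [N.Normal], (∀ ψ : Cfsg.IrrCharacter G,
        Cfsg.charDegree (ψ : G → ℂ) < Cfsg.charDegree (χ : G → ℂ) →
          ∀ n ∈ N, (ψ : G → ℂ) n = (ψ : G → ℂ) 1) →
      ∀ x ∈ ⁅N, N⁆, (χ : G → ℂ) x = (χ : G → ℂ) 1 := by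
    intro χ N _ hN x hx
    obtain ⟨H, lam, he⟩ := hmono χ
    have hidx : Cfsg.charDegree (χ : G → ℂ) = H.index := by
      refine H84.charDegree_of_eq ?_
      rw [he, CharInduce.indFun_one, map_one, Units.val_one, mul_one]
    rw [he]
    exact taketa_step H lam N (fun ψ hψ => hN ψ (hidx ▸ hψ)) hx
  have hlow : ∀ (n : ℕ) (χ : Cfsg.IrrCharacter G), Cfsg.charDegree (χ : G → ℂ) = 1 → 1 ≤ n →
      ∀ x ∈ derivedSeries G n, (χ : G → ℂ) x = (χ : G → ℂ) 1 := fun n χ h hn x hx =>
    linear_apply_commutator h (derivedSeries_one G ▸ derivedSeries_antitone G hn hx)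
  have hmid : ∀ χ : Cfsg.IrrCharacter G, Cfsg.charDegree (χ : G → ℂ) ≤ a →
      ∀ x ∈ derivedSeries G 2, (χ : G → ℂ) x = (χ : G → ℂ) 1 := by
    intro χ hχa x hx
    by_cases h1 : Cfsg.charDegree (χ : G → ℂ) = 1
    · exact hlow 2 χ h1 one_le_two x hx
    refine step χ (derivedSeries G 1) (fun ψ hψ n hn => ?_) x hx
    have hψ1 : Cfsg.charDegree (ψ : G → ℂ) = 1 :=
      (hd ψ).resolve_right fun h => by rcases h with h | h <;> omega
    exact hlow 1 ψ hψ1 le_rfl n hn
  refine (Subgroup.eq_bot_iff_forall _).2 fun x hx => CharBasic.eq_one_of_forall_irr fun χ => ?_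
  by_cases h1 : Cfsg.charDegree (χ : G → ℂ) = 1
  · exact hlow 3 χ h1 (by norm_num) x hx
  by_cases h2 : Cfsg.charDegree (χ : G → ℂ) ≤ a
  · exact hmid χ h2 x (derivedSeries_antitone G (show 2 ≤ 3 by norm_num) hx)
  refine step χ (derivedSeries G 2) (fun ψ hψ n hn => ?_) x hx
  rcases hd χ with h | h | h
  · exact absurd h h1
  · exact absurd h.le h2
  · rcases hd ψ with h' | h' | h'
    · exact hlow 2 ψ h' one_le_two n hn
    · exact hmid ψ h'.le n hn
    · omega

theorem ordCompl_eq_of_dvd {p k c d : ℕ} (hp : p.Prime) (hc : c ≠ 0) (h1 : d ∣ c)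
    (h2 : c / d ∣ p ^ k) (hcop : d.Coprime p) : d = c / p ^ c.factorization p := by
  obtain ⟨j, -, hj⟩ := (Nat.dvd_prime_pow hp).1 h2
  have e1 : c = d * p ^ j := by rw [← hj, Nat.mul_div_cancel' h1]
  set v := c.factorization p
  set c' := c / p ^ v with hc'
  have e2 : p ^ v * c' = c := Nat.ordProj_mul_ordCompl_eq_self c p
  have hc'cop : c'.Coprime p := (Nat.coprime_ordCompl hp hc).symm
  apply Nat.dvd_antisymm
  · exact (hcop.pow_right v).dvd_of_dvd_mul_left (e2.symm ▸ h1)
  · exact (hc'cop.pow_right j).dvd_of_dvd_mul_right (e1 ▸ ⟨p ^ v, by rw [mul_comm]; exact e2.symm⟩)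

/-- Case of a prime dividing every nonlinear degree. -/
theorem derivedSeries_three_of_common_prime {p a b : ℕ} (hp : p.Prime) (hd : DegreesAmong G a b)
    (hdiv : ∀ χ : Cfsg.IrrCharacter G, Cfsg.charDegree (χ : G → ℂ) ≠ 1 →
      p ∣ Cfsg.charDegree (χ : G → ℂ))
    (hex : ∃ χ : Cfsg.IrrCharacter G, Cfsg.charDegree (χ : G → ℂ) ≠ 1)
    (ih : ∀ (H : Type u) [Group H] [Finite H], Nat.card H < Nat.card G →
      ∀ a b : ℕ, DegreesAmong H a b → derivedSeries H 3 = ⊥) :
    derivedSeries G 3 = ⊥ := by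
  classical
  cases nonempty_fintype G
  haveI := Fact.mk hp
  obtain ⟨K, hKn, hKcop, k, hidx⟩ := S4456.result p hp hdiv
  haveI := hKn
  haveI := Fintype.ofFinite K
  have hlt : Nat.card K < Nat.card G := by
    refine lt_of_le_of_ne (Subgroup.card_le_card_group _) fun e => ?_
    obtain ⟨χ, hχ⟩ := hex
    rw [e] at hKcop
    exact hp.ne_one (Nat.eq_one_of_dvd_coprimes hKcop
      ((hdiv χ hχ).trans (charDegree_dvd_card χ)) dvd_rfl)
  set a' := a / p ^ a.factorization p with ha'
  set b' := b / p ^ b.factorization p with hb'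
  have hK : DegreesAmong K a' b' := by
    intro θ
    obtain ⟨χ, h1, h2⟩ := exists_degree_above K θ
    rw [hidx] at h2
    have hcop := hKcop.coprime_dvd_left (charDegree_dvd_card θ)
    have hθ := ordCompl_eq_of_dvd hp (charDegree_pos χ).ne' h1 h2 hcop
    rcases hd χ with h | h | h
    · left
      rw [hθ, h, Nat.factorization_one]
      simp
    · exact Or.inr (Or.inl (by rw [hθ, h]))
    · exact Or.inr (Or.inr (by rw [hθ, h]))
  set K' := (derivedSeries K 1).map K.subtype with hK'
  have hK'e : K' = ⁅K, K⁆ := by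
    rw [hK', derivedSeries_one, Subgroup.map_subtype_commutator]
  haveI hK'n : K'.Normal := hK'e ▸ (inferInstance : (⁅K, K⁆).Normal)
  set Kq := K.map (QuotientGroup.mk' K')
  haveI : Kq.Normal := hKn.map _ (QuotientGroup.mk'_surjective K')
  have hKqab : ∀ u ∈ Kq, ∀ v ∈ Kq, u * v = v * u := by
    rintro _ ⟨x, hx, rfl⟩ _ ⟨y, hy, rfl⟩
    rw [← commutatorElement_eq_one_iff_mul_comm, ← map_commutatorElement]
    exact (QuotientGroup.eq_one_iff _).2 (hK'e ▸ Subgroup.commutator_mem_commutator hx hy)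
  have hQdeg : ∀ χ : Cfsg.IrrCharacter (G ⧸ K'), ∃ j, Cfsg.charDegree (χ : G ⧸ K' → ℂ) = p ^ j := by
    intro χ
    have h1 := (H84.charDegree_dvd_index Kq hKqab χ).trans
      (Subgroup.index_map_dvd K (QuotientGroup.mk'_surjective K'))
    rw [hidx] at h1
    obtain ⟨j, -, hj⟩ := (Nat.dvd_prime_pow hp).1 h1
    exact ⟨j, hj⟩
  have hpow : ∀ j : ℕ, p ^ j / p ^ (p ^ j).factorization p = 1 := by
    intro j
    rw [Nat.factorization_pow, Finsupp.smul_apply, hp.factorization_self, smul_eq_mul, mul_one,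
      Nat.div_self (pow_pos hp.pos j)]
  have hQa : a' ≠ 1 → DegreesAmong (G ⧸ K') b b := by
    intro h χ
    rcases hd.quotient K' χ with h1 | h1 | h1
    · exact Or.inl h1
    · obtain ⟨j, hj⟩ := hQdeg χ
      refine absurd ?_ h
      rw [ha', ← h1, hj, hpow]
    · exact Or.inr (Or.inl h1)
  have hQb : b' ≠ 1 → DegreesAmong (G ⧸ K') a a := by
    intro h χ
    rcases hd.quotient K' χ with h1 | h1 | h1
    · exact Or.inl h1
    · exact Or.inr (Or.inl h1)
    · obtain ⟨j, hj⟩ := hQdeg χ
      refine absurd ?_ h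
      rw [hb', ← h1, hj, hpow]
  -- at most one of the two degrees is a power of `p`, or both are
  have hone : ∀ c m : ℕ, (∀ θ : Cfsg.IrrCharacter K, Cfsg.charDegree (θ : K → ℂ) = 1 ∨
      Cfsg.charDegree (θ : K → ℂ) = c) → DegreesAmong (G ⧸ K') m m → derivedSeries G 3 = ⊥ := by
    intro c m hKc hQ
    have h2 : derivedSeries K 2 = ⊥ := derivedSeries_two_of_degreesIn (m := c) hKc
    have h3 : derivedSeries (G ⧸ K') 2 = ⊥ :=
      derivedSeries_two_of_degreesIn (m := m) fun χ => by simpa using hQ χ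
    exact derivedSeries_eq_bot_of_map K (derivedSeries_le_of_quotient K' h3) 1 h2
  by_cases ha1 : a' = 1 <;> by_cases hb1 : b' = 1
  · -- `K` is abelian
    have hKlin : ∀ θ : Cfsg.IrrCharacter K, Cfsg.charDegree (θ : K → ℂ) = 1 := fun θ => by
      rcases hK θ with h | h | h
      · exact h
      · exact h.trans ha1
      · exact h.trans hb1
    have hKab : ∀ x ∈ K, ∀ y ∈ K, x * y = y * x := fun x hx y hy =>
      congrArg Subtype.val (H84.commutative_of_linear hKlin ⟨x, hx⟩ ⟨y, hy⟩)
    have hQp : IsPGroup p (G ⧸ K) :=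
      IsPGroup.of_card (n := k) (by rw [← Subgroup.index_eq_card, hidx])
    haveI : Group.IsNilpotent (G ⧸ K) := hQp.isNilpotent
    haveI hQs : Group.IsSolvable (G ⧸ K) := inferInstance
    obtain ⟨n, hn⟩ := hQs.solvable
    haveI : Group.IsSolvable G := ⟨⟨n + 1, by
      refine le_bot_iff.1 ?_
      rw [derivedSeries_succ]
      have h1 := derivedSeries_le_of_quotient K hn
      refine (Subgroup.commutator_mono h1 h1).trans (le_bot_iff.2 ?_)
      rw [Subgroup.commutator_eq_bot_iff_le_centralizer]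
      exact fun x hx => Subgroup.mem_centralizer_iff.2 fun y hy => hKab y hy x hx⟩⟩
    have hmono : ∀ χ : Cfsg.IrrCharacter G, CharInduce.IsMonomial (χ : G → ℂ) := fun χ =>
      H34.monomial_of_relative_M K
        (fun _ _ P hP _ u hu v hv => hKab u (hP hu) v (hP hv))
        (H34.relative_M _ G rfl K hQs (noSquareFactor_of_index_eq_pow K hidx) _ χ.2)
    rcases le_total a b with h | h
    · exact derivedSeries_three_of_monomial h hd hmono
    · exact derivedSeries_three_of_monomial h hd.symm hmono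
  · exact hone b' a (fun θ => by
      rcases hK θ with h | h | h
      exacts [Or.inl h, Or.inl (h.trans ha1), Or.inr h]) (hQb hb1)
  · exact hone a' b (fun θ => by
      rcases hK θ with h | h | h
      exacts [Or.inl h, Or.inr h, Or.inl (h.trans hb1)]) (hQa ha1)
  · have hlin : ∀ χ : Cfsg.IrrCharacter (G ⧸ K'), Cfsg.charDegree (χ : G ⧸ K' → ℂ) = 1 := by
      intro χ
      rcases hd.quotient K' χ with h1 | h1 | h1
      · exact h1
      · obtain ⟨j, hj⟩ := hQdeg χ
        exact absurd (by rw [ha', ← h1, hj, hpow]) ha1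
      · obtain ⟨j, hj⟩ := hQdeg χ
        exact absurd (by rw [hb', ← h1, hj, hpow]) hb1
    have h1 := derivedSeries_le_of_quotient K'
      (derivedSeries_one_eq_bot (H84.commutative_of_linear hlin))
    exact derivedSeries_eq_bot_of_map K h1 2 (ih K hlt a' b' hK)

end Cfsg.Agent.H30.ThreeDegrees
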