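import Cfsg.Agent.PGroups.Basic
import Mathlib.GroupTheory.Nilpotent
import Mathlib.GroupTheory.Sylow
import Mathlib.GroupTheory.Abelianization.Defs

/-!
# Groups whose derived subgroup is abelian and lies in every nontrivial normal subgroup
-/

set_option autoImplicit false
set_option linter.style.haveILetI false
set_option linter.unusedSectionVars false

namespace Cfsg.Agent.H30.ThreeDegrees

open scoped commutatorElement
open Cfsg.Agent

universe u

variable {Q : Type u} [Group Q] [Finite Q]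

/-- A nontrivial nilpotent normal subgroup is a group of prime power order. -/
theorem exists_isPGroup_of_min (hD : commutator Q ≠ ⊥)
    (hmin : ∀ S : Subgroup Q, S.Normal → S ≠ ⊥ → commutator Q ≤ S)
    (C : Subgroup Q) [C.Normal] [Group.IsNilpotent C] (hC : C ≠ ⊥) :
    ∃ p : ℕ, p.Prime ∧ IsPGroup p C := by
  have key : ∀ r : ℕ, r.Prime → r ∣ Nat.card C → IsPGroup r (commutator Q) := by
    intro r hr hdvd
    haveI := Fact.mk hr
    obtain ⟨P⟩ : Nonempty (Sylow r C) := inferInstance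
    have hPn : (P : Subgroup C).Normal :=
      (Group.isNilpotent_of_finite_tfae.out 0 3 rfl rfl).1 ‹_› r ⟨hr⟩ P
    haveI : (P : Subgroup C).Characteristic := P.characteristic_of_normal hPn
    have hne : (P : Subgroup C).map C.subtype ≠ ⊥ := by
      rw [Ne, Subgroup.map_eq_bot_iff, Subgroup.ker_subtype, le_bot_iff]
      exact P.ne_bot_of_dvd_card hdvd
    exact (P.isPGroup'.map C.subtype).to_le (hmin _ inferInstance hne)
  obtain ⟨p, hp, hpd⟩ := Nat.exists_prime_and_dvd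
    ((Subgroup.one_lt_card_iff_ne_bot C).2 hC).ne'
  haveI := Fact.mk hp
  refine ⟨p, hp, IsPGroup.of_card (Nat.eq_prime_pow_of_unique_prime_dvd Nat.card_pos.ne' ?_)⟩
  intro r hr hrd
  haveI := Fact.mk hr
  obtain ⟨i, hi⟩ := IsPGroup.iff_card.1 (key r hr hrd)
  obtain ⟨j, hj⟩ := IsPGroup.iff_card.1 (key p hp hpd)
  have h1 := (Subgroup.one_lt_card_iff_ne_bot _).2 hD
  have hi0 : i ≠ 0 := by rintro rfl; rw [hi, pow_zero] at h1; exact lt_irrefl 1 h1
  have : r ∣ p ^ j := hj ▸ hi ▸ dvd_pow_self r hi0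
  exact (Nat.prime_dvd_prime_iff_eq hr hp).1 (hr.dvd_of_dvd_pow this)

/-- With a nontrivial centre the group has prime power order. -/
theorem exists_isPGroup_of_center (hD : commutator Q ≠ ⊥)
    (hmin : ∀ S : Subgroup Q, S.Normal → S ≠ ⊥ → commutator Q ≤ S)
    (hZ : Subgroup.center Q ≠ ⊥) : ∃ p k : ℕ, p.Prime ∧ Nat.card Q = p ^ k := by
  have hle := hmin _ inferInstance hZ
  have hc : ∀ u v : Q ⧸ Subgroup.center Q, u * v = v * u := by
    intro u v
    obtain ⟨x, rfl⟩ := QuotientGroup.mk'_surjective _ u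
    obtain ⟨y, rfl⟩ := QuotientGroup.mk'_surjective _ v
    rw [← commutatorElement_eq_one_iff_mul_comm, ← map_commutatorElement]
    exact (QuotientGroup.eq_one_iff _).2
      (hle (Subgroup.commutator_mem_commutator (Subgroup.mem_top x) (Subgroup.mem_top y)))
  haveI : Group.IsNilpotent (Q ⧸ Subgroup.center Q) := by
    letI : CommGroup (Q ⧸ Subgroup.center Q) :=
      { (inferInstance : Group (Q ⧸ Subgroup.center Q)) with mul_comm := hc }
    infer_instance
  haveI : Group.IsNilpotent Q :=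
    Subgroup.isNilpotent_of_ker_le_center (QuotientGroup.mk' (Subgroup.center Q))
      (QuotientGroup.ker_mk' _).le
  obtain ⟨p, hp, hP⟩ := exists_isPGroup_of_min hD hmin (⊤ : Subgroup Q)
    (fun h => hD (le_bot_iff.1 (h ▸ (le_top : commutator Q ≤ ⊤))))
  haveI := Fact.mk hp
  obtain ⟨k, hk⟩ := IsPGroup.iff_card.1 hP
  exact ⟨p, k, hp, by rw [← hk, Subgroup.card_top]⟩

/-- With trivial centre the derived subgroup is a Frobenius kernel of prime power order. -/
theorem frobenius_of_center_eq_bot (hD : commutator Q ≠ ⊥)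
    (hab : ∀ a ∈ commutator Q, ∀ b ∈ commutator Q, a * b = b * a)
    (hmin : ∀ S : Subgroup Q, S.Normal → S ≠ ⊥ → commutator Q ≤ S)
    (hZ : Subgroup.center Q = ⊥) :
    (∀ x, x ∉ commutator Q → ∀ d ∈ commutator Q, x * d = d * x → d = 1) ∧
      ∃ q : ℕ, q.Prime ∧ IsPGroup q (commutator Q) ∧ ¬ q ∣ (commutator Q).index := by
  classical
  set D := commutator Q with hDdef
  have hDn : D.Normal := inferInstance
  have hcomm : ∀ u v : Q, u * v * u⁻¹ * v⁻¹ ∈ D := fun u v =>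
    Subgroup.commutator_mem_commutator (Subgroup.mem_top u) (Subgroup.mem_top v)
  set C := Subgroup.centralizer (D : Set Q) with hCdef
  haveI : C.Normal := inferInstance
  have hDC : D ≤ C := fun a ha => Subgroup.mem_centralizer_iff.2 fun b hb => hab b hb a ha
  have hmem : ∀ x : Q, ∀ d ∈ D, d * x * d⁻¹ * x⁻¹ ∈ D := fun x d hd => by
    have := D.mul_mem hd (hDn.conj_mem d⁻¹ (D.inv_mem hd) x)
    convert this using 1
    group
  let φ : Q → (D →* D) := fun x =>
    { toFun := fun d => ⟨(d : Q) * x * (d : Q)⁻¹ * x⁻¹, hmem x d d.2⟩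
      map_one' := Subtype.ext (by simp)
      map_mul' := fun d e => Subtype.ext (by
        show (d : Q) * e * x * ((d : Q) * e)⁻¹ * x⁻¹ =
          ((d : Q) * x * (d : Q)⁻¹ * x⁻¹) * ((e : Q) * x * (e : Q)⁻¹ * x⁻¹)
        have h2 := hab _ (hmem x e e.2) _ (hDn.conj_mem _ (D.inv_mem d.2) x)
        calc (d : Q) * e * x * ((d : Q) * e)⁻¹ * x⁻¹
            = (d : Q) * (((e : Q) * x * (e : Q)⁻¹ * x⁻¹) * (x * (d : Q)⁻¹ * x⁻¹)) := by group
          _ = (d : Q) * ((x * (d : Q)⁻¹ * x⁻¹) * ((e : Q) * x * (e : Q)⁻¹ * x⁻¹)) := by rw [h2]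
          _ = _ := by group) }
  have hφ : ∀ x, x ∉ C → Function.Bijective (φ x) := by
    intro x hx
    have hn : ((φ x).range.map D.subtype).Normal := by
      constructor
      rintro _ ⟨_, ⟨d, rfl⟩, rfl⟩ g
      refine ⟨φ x ⟨g * d * g⁻¹, hDn.conj_mem _ d.2 g⟩, ⟨_, rfl⟩, ?_⟩
      show g * (d : Q) * g⁻¹ * x * (g * d * g⁻¹)⁻¹ * x⁻¹ = g * ((d : Q) * x * (d : Q)⁻¹ * x⁻¹) * g⁻¹
      set e := g * x * g⁻¹ * x⁻¹ with he
      set d' := g * (d : Q) * g⁻¹ with hd'
      have h1 := hab e (hcomm g x) d' (hDn.conj_mem _ d.2 g)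
      have h2 := hab e (hcomm g x) _ (hmem x d' (hDn.conj_mem _ d.2 g))
      calc d' * x * d'⁻¹ * x⁻¹ = d' * x * d'⁻¹ * x⁻¹ * e * e⁻¹ := by group
        _ = e * (d' * x * d'⁻¹ * x⁻¹) * e⁻¹ := by rw [h2]
        _ = (e * d') * x * d'⁻¹ * x⁻¹ * e⁻¹ := by group
        _ = (d' * e) * x * d'⁻¹ * x⁻¹ * e⁻¹ := by rw [h1]
        _ = _ := by rw [he, hd']; group
    have hne : (φ x).range.map D.subtype ≠ ⊥ := by
      intro h
      refine hx (Subgroup.mem_centralizer_iff.2 fun d hd => ?_)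
      have h1 : ((φ x ⟨d, hd⟩ : D) : Q) ∈ (φ x).range.map D.subtype := ⟨_, ⟨_, rfl⟩, rfl⟩
      rw [h, Subgroup.mem_bot] at h1
      have h2 : d * x * d⁻¹ * x⁻¹ = 1 := h1
      exact commutatorElement_eq_one_iff_mul_comm.1 h2
    have hsurj : Function.Surjective (φ x) := by
      intro d
      obtain ⟨e, he, hed⟩ := hmin _ hn hne d.2
      obtain ⟨f, rfl⟩ := he
      exact ⟨f, Subtype.ext hed⟩
    exact ⟨Finite.injective_iff_surjective.2 hsurj, hsurj⟩
  have hfree : ∀ x, x ∉ C → ∀ d ∈ D, x * d = d * x → d = 1 := by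
    intro x hx d hd h
    have h1 : φ x ⟨d, hd⟩ = φ x 1 := by
      rw [map_one]
      exact Subtype.ext (commutatorElement_eq_one_iff_mul_comm.2 h.symm)
    exact congrArg Subtype.val ((hφ x hx).1 h1)
  obtain ⟨x, hx⟩ : ∃ x, x ∉ C := by
    by_contra h
    push Not at h
    refine hD (le_bot_iff.1 (hZ ▸ fun d hd => Subgroup.mem_center_iff.2 fun g => ?_))
    exact (Subgroup.mem_centralizer_iff.1 (h g) d hd).symm
  have hCD : C ≤ D := by
    intro c hc
    obtain ⟨⟨d, hd⟩, hdc⟩ := (hφ x hx).2 ⟨c * x * c⁻¹ * x⁻¹, hcomm c x⟩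
    have hdc' : d * x * d⁻¹ * x⁻¹ = c * x * c⁻¹ * x⁻¹ := congrArg Subtype.val hdc
    set w := d⁻¹ * c with hw
    have hwC : w ∈ C := C.mul_mem (C.inv_mem (hDC hd)) hc
    have hwx : w * x * w⁻¹ = x :=
      calc w * x * w⁻¹ = d⁻¹ * (c * x * c⁻¹ * x⁻¹) * x * d := by rw [hw]; group
        _ = d⁻¹ * (d * x * d⁻¹ * x⁻¹) * x * d := by rw [hdc']
        _ = x := by group
    have hxw : x * w * x⁻¹ = w := by
      rw [show x * w = w * x from (mul_inv_eq_iff_eq_mul.1 hwx).symm, mul_inv_cancel_right]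
    have hwZ : w ∈ Subgroup.center Q := by
      refine Subgroup.mem_center_iff.2 fun y => ?_
      set e := w * y * w⁻¹ * y⁻¹ with he
      set e' := x * y * x⁻¹ * y⁻¹ with he'
      have he'w : e' * w = w * e' := Subgroup.mem_centralizer_iff.1 hwC e' (hcomm x y)
      have h3 : x * e * x⁻¹ = e :=
        calc x * e * x⁻¹ = (x * w * x⁻¹) * (e' * y) * (x * w * x⁻¹)⁻¹ * (e' * y)⁻¹ := by
              rw [he, he']; group
          _ = w * e' * y * w⁻¹ * y⁻¹ * e'⁻¹ := by rw [hxw]; group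
          _ = e' * w * y * w⁻¹ * y⁻¹ * e'⁻¹ := by rw [← he'w]
          _ = e' * e * e'⁻¹ := by rw [he]; group
          _ = e := by rw [hab e' (hcomm x y) e (hcomm w y), mul_inv_cancel_right]
      have h4 : e = 1 := hfree x hx e (hcomm w y) (mul_inv_eq_iff_eq_mul.1 h3)
      exact (commutatorElement_eq_one_iff_mul_comm.1 h4).symm
    rw [hZ, Subgroup.mem_bot, hw, inv_mul_eq_one] at hwZ
    exact hwZ ▸ hd
  have hCeq : C = D := le_antisymm hCD hDC
  rw [hCeq] at hfree
  refine ⟨hfree, ?_⟩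
  haveI : Group.IsNilpotent D := by
    letI : CommGroup D :=
      { (inferInstance : Group D) with mul_comm := fun a b => Subtype.ext (hab a a.2 b b.2) }
    infer_instance
  obtain ⟨q, hq, hqD⟩ := exists_isPGroup_of_min hD hmin D hD
  refine ⟨q, hq, hqD, fun hdvd => ?_⟩
  haveI := Fact.mk hq
  obtain ⟨P, hP⟩ := hqD.exists_le_sylow
  have hlt : ¬ (P : Subgroup Q) ≤ D := fun h =>
    P.not_dvd_index (by rwa [le_antisymm h hP])
  obtain ⟨y, hyP, hyD⟩ := SetLike.not_le_iff_exists.1 hlt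
  have hne : D.subgroupOf (P : Subgroup Q) ≠ ⊥ := by
    intro h
    refine hD ((Subgroup.eq_bot_iff_forall _).2 fun d hd => ?_)
    have h1 : (⟨d, hP hd⟩ : (P : Subgroup Q)) ∈ D.subgroupOf (P : Subgroup Q) := hd
    rw [h, Subgroup.mem_bot] at h1
    exact congrArg Subtype.val h1
  obtain ⟨z, hz, hz1⟩ := (Subgroup.bot_or_exists_ne_one _).resolve_left
    (PGroups.inf_center_ne_bot P.isPGroup' _ hne)
  exact hz1 (Subtype.ext (hfree y hyD z hz.1
    (congrArg Subtype.val (Subgroup.mem_center_iff.1 hz.2 ⟨y, hyP⟩))))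

/-- The index of a subgroup with fixed point free action is at most its order. -/
theorem index_le_card_of_free (D : Subgroup Q) [hDn : D.Normal] (hD : D ≠ ⊥)
    (hfree : ∀ x, x ∉ D → ∀ d ∈ D, x * d = d * x → d = 1) : D.index ≤ Nat.card D := by
  obtain ⟨d, hd, hd1⟩ := D.bot_or_exists_ne_one.resolve_left hD
  rw [Subgroup.index_eq_card]
  refine Nat.card_le_card_of_injective
    (fun c : Q ⧸ D => (⟨c.out * d * c.out⁻¹, hDn.conj_mem d hd _⟩ : D)) ?_
  intro u v huv
  have h1 : u.out * d * u.out⁻¹ = v.out * d * v.out⁻¹ := congrArg Subtype.val huv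
  rw [← u.out_eq, ← v.out_eq, QuotientGroup.eq]
  by_contra h2
  refine hd1 (hfree _ h2 d hd ?_)
  calc u.out⁻¹ * v.out * d = u.out⁻¹ * (v.out * d * v.out⁻¹) * v.out := by group
    _ = u.out⁻¹ * (u.out * d * u.out⁻¹) * v.out := by rw [h1]
    _ = d * (u.out⁻¹ * v.out) := by group

end Cfsg.Agent.H30.ThreeDegrees
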