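import Cfsg.Agent.H30.ThreeDegrees.Basic
import Cfsg.Agent.H30.ThreeDegrees.MinimalDerived
import Cfsg.Agent.CharInduce.Det

/-!
# Three coprime character degrees, the derived subgroup not perfect
-/

set_option linter.style.haveILetI false
set_option linter.unusedSectionVars false

namespace Cfsg.Agent.H30.ThreeDegrees

open scoped ComplexConjugate commutatorElement
open Cfsg.Agent

universe u

variable {G : Type u} [Group G] [Finite G]

/-- An irreducible character with inertia group `N` induces irreducibly. -/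
theorem isIrr_indFun_of_inertia [Fintype G] (N : Subgroup G) [N.Normal] [Fintype N] {θ : N → ℂ}
    (hθ : Cfsg.IsIrrCharacter N θ) (hin : ∀ g, CharInduce.conjFun N θ g = θ → g ∈ N) :
    Cfsg.IsIrrCharacter G (Cfsg.indFun N θ) := by
  classical
  refine CharInduce.isIrr_of_norm_one
    (CharInduce.IsChar.ind N (CharBasic.IsIrr.isCharacter hθ)) ?_
  rw [CharInduce.classInner_indFun_left N _ _ (CharInduce.isClassFunction_indFun N θ),
    CharInduce.indFun_res_normal, CharBasic.classInner_smul_right, CharBasic.classInner_sum_right,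
    map_inv₀, map_natCast, Finset.sum_congr rfl
      (fun g _ => show Cfsg.classInner θ (CharInduce.conjFun N θ g) = if g ∈ N then 1 else 0 from ?_),
    Finset.sum_boole, inv_mul_eq_one₀ (CharInduce.card_ne_zero_complex N), Nat.cast_inj,
    Nat.card_eq_fintype_card, Fintype.card_subtype]
  split_ifs with hg
  · have : CharInduce.conjFun N θ g = θ :=
      (CharInduce.mem_inertia _).1 (CharInduce.le_inertia N (CharBasic.IsIrr.isClassFunction hθ) hg)
    rw [this, CharBasic.classInner_irr_self hθ]
  · exact CharBasic.classInner_irr_of_ne hθ (CharInduce.isIrrCharacter_conjFun N hθ g)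
      fun h => hg (hin g h.symm)

section Preimage

variable (M : Subgroup G) [M.Normal]

/-- The preimage of the derived subgroup of `G ⧸ M`. -/
def derivedPreimage : Subgroup G := (commutator (G ⧸ M)).comap (QuotientGroup.mk' M)

instance normal_derivedPreimage : (derivedPreimage M).Normal := by
  unfold derivedPreimage; infer_instance

/-- The map of the preimage onto the derived subgroup. -/
def toDerived : derivedPreimage M →* commutator (G ⧸ M) :=
  ((QuotientGroup.mk' M).comp (derivedPreimage M).subtype).codRestrict _ fun e => e.2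

theorem toDerived_surjective : Function.Surjective (toDerived M) := by
  rintro ⟨d, hd⟩
  obtain ⟨g, rfl⟩ := QuotientGroup.mk'_surjective M d
  exact ⟨⟨g, hd⟩, rfl⟩

theorem toDerived_conj (g : G) (e : derivedPreimage M)
    (h : g * e * g⁻¹ ∈ derivedPreimage M) :
    (toDerived M ⟨g * e * g⁻¹, h⟩ : G ⧸ M) =
      QuotientGroup.mk' M g * (toDerived M e : G ⧸ M) * (QuotientGroup.mk' M g)⁻¹ := by
  show QuotientGroup.mk' M (g * e * g⁻¹) = _
  rw [map_mul, map_mul, map_inv]
  rfl

/-- Twisting by the characters of the derived subgroup gives inertia group the preimage. -/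
theorem exists_twist_inertia [Fintype G]
    (hab : ∀ a ∈ commutator (G ⧸ M), ∀ b ∈ commutator (G ⧸ M), a * b = b * a)
    (hD : commutator (G ⧸ M) ≠ ⊥)
    (hfree : ∀ x, x ∉ commutator (G ⧸ M) → ∀ d ∈ commutator (G ⧸ M), x * d = d * x → d = 1)
    {θ : derivedPreimage M → ℂ} (hθ : Cfsg.IsIrrCharacter (derivedPreimage M) θ) {d0 : ℕ}
    (hd0 : θ 1 = d0) (hcop : d0.Coprime (Nat.card (commutator (G ⧸ M)))) :
    ∃ l : commutator (G ⧸ M) →* ℂˣ, ∀ g,
      CharInduce.conjFun (derivedPreimage M) (fun e => (l (toDerived M e) : ℂ) * θ e) g =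
        (fun e => (l (toDerived M e) : ℂ) * θ e) → g ∈ derivedPreimage M := by
  classical
  set D := commutator (G ⧸ M) with hDdef
  have hDn : D.Normal := inferInstance
  haveI := Fintype.ofFinite (derivedPreimage M)
  by_contra hno
  push Not at hno
  choose g hfix hgE using hno
  letI : CommGroup D :=
    { (inferInstance : Group D) with mul_comm := fun a b => Subtype.ext (hab a a.2 b b.2) }
  have hcard : Nat.card (D →* ℂˣ) = Nat.card D :=
    Nat.card_congr (CommGroup.monoidHom_mulEquiv_of_hasEnoughRootsOfUnity D ℂ).some.toEquiv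
  have hidx : (derivedPreimage M).index = D.index :=
    D.index_comap_of_surjective (QuotientGroup.mk'_surjective M)
  have hlt : Nat.card {c : G ⧸ (derivedPreimage M) // c ≠ 1} < Nat.card (D →* ℂˣ) := by
    rw [hcard]
    refine lt_of_lt_of_le ?_ (index_le_card_of_free D hD hfree)
    rw [← hidx, Subgroup.index_eq_card]
    exact Finite.card_subtype_lt (x := 1) (fun h => h rfl)
  obtain ⟨l, l', hne, heq⟩ : ∃ l l' : D →* ℂˣ, l ≠ l' ∧ (g l : G ⧸ (derivedPreimage M)) = (g l' : G ⧸ (derivedPreimage M)) := by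
    by_contra hc
    push Not at hc
    refine hlt.not_ge (Nat.card_le_card_of_injective
      (fun l => (⟨(g l : G ⧸ (derivedPreimage M)), fun h => hgE l ((QuotientGroup.eq_one_iff _).1 h)⟩ :
        {c : G ⧸ (derivedPreimage M) // c ≠ 1})) fun l l' h => ?_)
    by_contra hne
    exact hc l l' hne (congrArg Subtype.val h)
  set x := g l with hx
  have hirr : ∀ l : D →* ℂˣ, Cfsg.IsIrrCharacter (derivedPreimage M) (fun e => (l (toDerived M e) : ℂ) * θ e) :=
    fun l => CharInduce.isIrr_hom_mul hθ (l.comp (toDerived M))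
  have h' : CharInduce.conjFun (derivedPreimage M) (fun e => (l' (toDerived M e) : ℂ) * θ e) x =
      fun e => (l' (toDerived M e) : ℂ) * θ e := by
    refine (CharInduce.mem_inertia _).1 ?_
    have h1 : (g l')⁻¹ * x ∈ (derivedPreimage M) := QuotientGroup.eq.1 heq.symm
    rw [← mul_inv_cancel_left (g l') x]
    exact mul_mem ((CharInduce.mem_inertia _).2 (hfix l'))
      (CharInduce.le_inertia (derivedPreimage M) (CharBasic.IsIrr.isClassFunction (hirr l')) h1)
  -- conjugation by `x` on the derived subgroup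
  set y := QuotientGroup.mk' M x with hy
  let α : D →* D :=
    { toFun := fun d => ⟨y * d * y⁻¹, hDn.conj_mem d d.2 y⟩
      map_one' := Subtype.ext (by simp)
      map_mul' := fun d e => Subtype.ext (by simp [mul_assoc]) }
  let μ : D →* ℂˣ := (l / l.comp α) / (l' / l'.comp α)
  have hμ : ∀ e : (derivedPreimage M), (μ (toDerived M e) : ℂ) * θ e = θ e := by
    intro e
    have hm : x * e * x⁻¹ ∈ (derivedPreimage M) := (inferInstance : (derivedPreimage M).Normal).conj_mem e e.2 x
    have hae : toDerived M ⟨x * e * x⁻¹, hm⟩ = α (toDerived M e) :=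
      Subtype.ext (toDerived_conj M x e hm)
    have e1 := congrFun (hfix l) e
    have e2 := congrFun h' e
    simp only [CharInduce.conjFun, ← hx, hae] at e1 e2
    set a := toDerived M e
    show (((l a / l (α a)) / (l' a / l' (α a)) : ℂˣ) : ℂ) * θ e = θ e
    simp only [Units.val_div_eq_div_val]
    field_simp
    linear_combination (-(l' (α a) : ℂ)) * e1 + (l (α a) : ℂ) * e2
  have hμ1 : μ = 1 := by
    have hc := CharBasic.IsIrr.isCharacter hθ
    obtain ⟨T, hT⟩ := CharInduce.exists_detChar_eq_hom hc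
    refine orderOf_eq_one_iff.1 (Nat.eq_one_of_dvd_coprimes hcop (orderOf_dvd_of_pow_eq_one ?_)
      (CharInduce.orderOf_hom_dvd_card μ))
    refine MonoidHom.ext fun d => ?_
    obtain ⟨e, rfl⟩ := toDerived_surjective M d
    have h1 := CharInduce.detChar_mul_hom hc (μ.comp (toDerived M)) hd0 e
    rw [show (fun e : (derivedPreimage M) => ((μ.comp (toDerived M)) e : ℂ) * θ e) = θ from funext hμ, hT] at h1
    refine Units.ext ?_
    rw [MonoidHom.pow_apply, Units.val_pow_eq_pow_val, MonoidHom.one_apply, Units.val_one]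
    exact (mul_eq_right₀ (T e).ne_zero).1 h1.symm
  apply hne
  have hyD : y ∉ D := hgE l
  have hsurj : Function.Surjective fun d : D => α d / d := by
    refine Finite.injective_iff_surjective.1 fun d e hde => ?_
    have h1 : α (d / e) = d / e := by
      rw [map_div]
      exact div_eq_div_iff_div_eq_div.1 hde
    exact div_eq_one.1 (Subtype.ext (hfree y hyD _ (d / e).2
      (mul_inv_eq_iff_eq_mul.1 (congrArg Subtype.val h1))))
  refine MonoidHom.ext fun d => ?_
  obtain ⟨d, rfl⟩ := hsurj d
  have h1 : l d / l (α d) = l' d / l' (α d) := div_eq_one.1 (DFunLike.congr_fun hμ1 d)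
  show l (α d / d) = l' (α d / d)
  rw [map_div, map_div, ← inv_div, h1, inv_div]

end Preimage

theorem mul_ne_of_coprime {a b c f : ℕ} (hcop : a.Coprime b) (ha : 1 < a) (hb : 1 < b)
    (hc : c = a ∨ c = b) (hf : f = a ∨ f = b) : f * c ≠ a ∧ f * c ≠ b := by
  have key : ∀ {u v : ℕ}, u.Coprime v → 1 < u → u * u ≠ v := by
    intro u v h hu e
    exact hu.ne' (Nat.eq_one_of_dvd_coprimes h dvd_rfl ⟨u, e.symm⟩)
  have hne : ∀ {u v : ℕ}, 1 < u → 1 < v → u * v ≠ u ∧ u * v ≠ v := fun hu hv =>
    ⟨fun e => hv.ne' ((Nat.mul_eq_left (by omega)).1 e),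
      fun e => hu.ne' ((Nat.mul_eq_right (by omega)).1 e)⟩
  rcases hc with rfl | rfl <;> rcases hf with rfl | rfl
  · exact ⟨(hne ha ha).1, key hcop ha⟩
  · exact ⟨(hne hb ha).2, (hne hb ha).1⟩
  · exact hne ha hb
  · exact ⟨key hcop.symm hb, (hne hb hb).1⟩

theorem derivedSeries_three_of_degree_eq [Fintype G] {a b : ℕ} (hd : DegreesAmong G a b)
    (hb : 1 < b) (hcop : a.Coprime b) (M : Subgroup G) [M.Normal]
    (hab : ∀ x ∈ commutator (G ⧸ M), ∀ y ∈ commutator (G ⧸ M), x * y = y * x)
    (hD : commutator (G ⧸ M) ≠ ⊥)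
    (hfree : ∀ x, x ∉ commutator (G ⧸ M) → ∀ d ∈ commutator (G ⧸ M), x * d = d * x → d = 1)
    {q : ℕ} (hq : q.Prime) (hqD : IsPGroup q (commutator (G ⧸ M)))
    (hqi : ¬ q ∣ (commutator (G ⧸ M)).index) (ha : (derivedPreimage M).index = a) (ha1 : 1 < a) :
    derivedSeries G 3 = ⊥ := by
  classical
  haveI := Fact.mk hq
  set E := derivedPreimage M
  haveI := Fintype.ofFinite E
  have hidx : E.index = (commutator (G ⧸ M)).index :=
    (commutator (G ⧸ M)).index_comap_of_surjective (QuotientGroup.mk'_surjective M)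
  have hE : H84.DegreesIn E b := by
    intro θ
    refine or_iff_not_imp_left.2 fun h1 => ?_
    set d := Cfsg.charDegree (θ : E → ℂ) with hdd
    obtain ⟨n, hn⟩ := IsPGroup.iff_card.1 hqD
    have hqd : q ∣ d := by
      by_contra hqd
      obtain ⟨l, hl⟩ := exists_twist_inertia M hab hD hfree θ.2 (apply_one θ)
        (hn ▸ ((hq.coprime_iff_not_dvd.2 hqd).symm.pow_right n))
      have hirr : Cfsg.IsIrrCharacter E (fun e => (l (toDerived M e) : ℂ) * (θ : E → ℂ) e) :=
        CharInduce.isIrr_hom_mul θ.2 (l.comp (toDerived M))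
      have hind := isIrr_indFun_of_inertia E hirr hl
      have hdeg : Cfsg.charDegree (Cfsg.indFun E
          (fun e => (l (toDerived M e) : ℂ) * (θ : E → ℂ) e)) = a * d := by
        refine H84.charDegree_of_eq ?_
        rw [CharInduce.indFun_one, map_one, map_one, Units.val_one, one_mul, apply_one, ha,
          ← hdd, Nat.cast_mul]
      have := hd ⟨_, hind⟩
      rw [hdeg] at this
      rcases this with h | h | h
      · exact ha1.ne' (Nat.eq_one_of_mul_eq_one_right h)
      · exact h1 ((Nat.mul_eq_left (by omega)).1 h)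
      · exact ha1.ne' (Nat.eq_one_of_dvd_coprimes hcop dvd_rfl ⟨d, h.symm⟩)
    obtain ⟨χ, hχ1, hχ2⟩ := exists_degree_above E θ
    rw [ha] at hχ2
    rw [← hdd] at hχ1 hχ2
    rcases hd χ with h | h | h <;> rw [h] at hχ1 hχ2
    · exact absurd (Nat.dvd_one.1 hχ1) h1
    · exact absurd (hqd.trans hχ1) (by rwa [← hidx, ha] at hqi)
    · have h2 : b / d = 1 := Nat.eq_one_of_dvd_coprimes hcop hχ2 (Nat.div_dvd_of_dvd hχ1)
      have h3 := Nat.div_mul_cancel hχ1
      rw [h2, one_mul] at h3
      exact h3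
  refine derivedSeries_eq_bot_of_map E (m := 1) (j := 0) ?_ 2 (derivedSeries_two_of_degreesIn hE)
  rw [derivedSeries_zero, ← MonoidHom.range_eq_map, E.range_subtype]
  show derivedSeries G 1 ≤ (commutator (G ⧸ M)).comap (QuotientGroup.mk' M)
  rw [← Subgroup.map_le_iff_le_comap,
    map_derivedSeries_eq (QuotientGroup.mk'_surjective M), derivedSeries_one]

/-- Two coprime nonlinear degrees with `G'' < G'`. -/
theorem derivedSeries_three_of_imperfect {a b : ℕ} (hd : DegreesAmong G a b) (ha : 1 < a)
    (hb : 1 < b) (hcop : a.Coprime b)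
    (hA : ∃ χ : Cfsg.IrrCharacter G, Cfsg.charDegree (χ : G → ℂ) = a)
    (hB : ∃ χ : Cfsg.IrrCharacter G, Cfsg.charDegree (χ : G → ℂ) = b)
    (hne : ¬ derivedSeries G 1 ≤ derivedSeries G 2) : derivedSeries G 3 = ⊥ := by
  classical
  cases nonempty_fintype G
  obtain ⟨M, hM⟩ := (Set.toFinite {M : Subgroup G | M.Normal ∧ derivedSeries G 2 ≤ M ∧
      ¬ derivedSeries G 1 ≤ M}).exists_maximal ⟨_, derivedSeries_normal G 2, le_rfl, hne⟩
  obtain ⟨hMn, hM2, hM1⟩ := hM.prop
  haveI := hMn
  set π := QuotientGroup.mk' M with hπ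
  set D := commutator (G ⧸ M) with hDdef
  have hmap1 : (derivedSeries G 1).map π = D := by
    rw [map_derivedSeries_eq (QuotientGroup.mk'_surjective M), derivedSeries_one]
  have hD : D ≠ ⊥ := by
    rw [← hmap1, Ne, Subgroup.map_eq_bot_iff, hπ, QuotientGroup.ker_mk']
    exact hM1
  have hab : ∀ x ∈ D, ∀ y ∈ D, x * y = y * x := by
    intro x hx y hy
    rw [← commutatorElement_eq_one_iff_mul_comm, ← Subgroup.mem_bot]
    have h2 : (derivedSeries G 2).map π = ⊥ := by
      rw [Subgroup.map_eq_bot_iff, hπ, QuotientGroup.ker_mk']; exact hM2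
    rw [map_derivedSeries_eq (QuotientGroup.mk'_surjective M), derivedSeries_succ,
      derivedSeries_one] at h2
    exact h2 ▸ Subgroup.commutator_mem_commutator hx hy
  have hmin : ∀ S : Subgroup (G ⧸ M), S.Normal → S ≠ ⊥ → D ≤ S := by
    intro S hS hSne
    have hle : M ≤ S.comap π := fun x hx => by
      rw [Subgroup.mem_comap, hπ, QuotientGroup.mk'_apply, (QuotientGroup.eq_one_iff x).2 hx]
      exact S.one_mem
    have h1 : derivedSeries G 1 ≤ S.comap π := by
      by_contra h1
      refine hSne ?_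
      have := hM.le_of_ge ⟨hS.comap π, hM2.trans hle, h1⟩ hle
      rw [← Subgroup.map_comap_eq_self_of_surjective (QuotientGroup.mk'_surjective M) S,
        Subgroup.map_eq_bot_iff, QuotientGroup.ker_mk']
      exact this
    rw [← hmap1]
    exact Subgroup.map_le_iff_le_comap.2 h1
  by_cases hZ : Subgroup.center (G ⧸ M) = ⊥
  · obtain ⟨hfree, q, hq, hqD, hqi⟩ := frobenius_of_center_eq_bot hD hab hmin hZ
    set E := derivedPreimage M
    haveI := Fintype.ofFinite E
    obtain ⟨l, hl⟩ := exists_twist_inertia M hab hD hfree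
      (θ := fun _ => 1) CharBasic.isIrrCharacter_one (d0 := 1) Nat.cast_one.symm
      (Nat.coprime_one_left _)
    have hirr : Cfsg.IsIrrCharacter E (fun e => (l (toDerived M e) : ℂ) * 1) :=
      CharInduce.isIrr_hom_mul CharBasic.isIrrCharacter_one (l.comp (toDerived M))
    have hdeg : Cfsg.charDegree (Cfsg.indFun E (fun e => (l (toDerived M e) : ℂ) * 1)) = E.index := by
      refine H84.charDegree_of_eq ?_
      rw [CharInduce.indFun_one, map_one, map_one, Units.val_one, mul_one, mul_one]
    have hidx : E.index = D.index := D.index_comap_of_surjective (QuotientGroup.mk'_surjective M)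
    have hne1 : E.index ≠ 1 := by
      rw [hidx, Ne, Subgroup.index_eq_one]
      intro h
      obtain ⟨x, hx, hx1⟩ := (Subgroup.bot_or_exists_ne_one D).resolve_left hD
      refine hx1 ?_
      have hxc : x ∈ Subgroup.center (G ⧸ M) :=
        Subgroup.mem_center_iff.2 fun g => hab g (by rw [h]; exact Subgroup.mem_top g) x hx
      rwa [hZ, Subgroup.mem_bot] at hxc
    have := hd ⟨_, isIrr_indFun_of_inertia E hirr hl⟩
    rw [hdeg] at this
    rcases this with h | h | h
    · exact absurd h hne1
    · exact derivedSeries_three_of_degree_eq hd hb hcop M hab hD hfree hq hqD hqi h ha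
    · exact derivedSeries_three_of_degree_eq hd.symm ha hcop.symm M hab hD hfree hq hqD hqi h hb
  · exfalso
    obtain ⟨p, k, hp, hcard⟩ := exists_isPGroup_of_center hD hmin hZ
    obtain ⟨χ, hχp, hχc⟩ : ∃ χ : Cfsg.IrrCharacter G, ¬ p ∣ Cfsg.charDegree (χ : G → ℂ) ∧
        (Cfsg.charDegree (χ : G → ℂ) = a ∨ Cfsg.charDegree (χ : G → ℂ) = b) := by
      obtain ⟨χ₁, h₁⟩ := hA
      obtain ⟨χ₂, h₂⟩ := hB
      by_cases h : p ∣ a
      · refine ⟨χ₂, fun h' => ?_, Or.inr h₂⟩
        rw [h₂] at h'
        exact hp.ne_one (Nat.eq_one_of_dvd_coprimes hcop h h')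
      · exact ⟨χ₁, h₁ ▸ h, Or.inl h₁⟩
    set c := Cfsg.charDegree (χ : G → ℂ) with hc
    haveI := Fintype.ofFinite M
    have hresc := CharInduce.IsChar.res (CharBasic.IsIrr.isCharacter χ.2) M
    obtain ⟨θ, hθ⟩ := CharInduce.exists_constituent hresc
      fun e => CharBasic.IsIrr.one_ne_zero χ.2 (congrFun e 1)
    obtain ⟨h1, h2⟩ := H35.DegreeIndex.degree_quotient_dvd_index M χ.2 θ.2 hθ _ _
      (apply_one χ) (apply_one θ)
    rw [Subgroup.index_eq_card, hcard, ← hc] at h2
    have h3 : c / Cfsg.charDegree (θ : M → ℂ) = 1 := Nat.eq_one_of_dvd_coprimes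
      ((hp.coprime_iff_not_dvd.2 hχp).symm.pow_right k) (Nat.div_dvd_of_dvd h1) h2
    have hθc : Cfsg.charDegree (θ : M → ℂ) = c := by
      have := Nat.div_mul_cancel h1
      rwa [← hc, h3, one_mul] at this
    obtain ⟨r, hr, her⟩ := CharInduce.IsChar.exists_eq_add hresc θ.2 hθ
    have hr0 : r = 0 := CharInduce.IsChar.eq_zero_of_one_eq_zero hr (by
      have h4 := congrFun her 1
      rw [Pi.add_apply, OneMemClass.coe_one, apply_one, apply_one, ← hc, hθc, left_eq_add] at h4
      exact h4)
    rw [hr0, add_zero] at her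
    obtain ⟨β, hβ⟩ : ∃ β : Cfsg.IrrCharacter (G ⧸ M), Cfsg.charDegree (β : G ⧸ M → ℂ) ≠ 1 := by
      refine H84.exists_nonlinear ?_
      by_contra hcm
      push Not at hcm
      refine hD ?_
      rw [hDdef, commutator_def, Subgroup.commutator_eq_bot_iff_le_centralizer]
      exact fun x _ => Subgroup.mem_centralizer_iff.2 fun y _ => hcm y x
    set β' := H84.inflateIrr M β
    have hβker : ∀ n ∈ M, (β' : G → ℂ) n = (β' : G → ℂ) 1 := fun n hn => by
      show (β : G ⧸ M → ℂ) (QuotientGroup.mk' M n) = (β : G ⧸ M → ℂ) (QuotientGroup.mk' M 1)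
      rw [map_one, QuotientGroup.mk'_apply, (QuotientGroup.eq_one_iff n).2 hn]
    have habove : β' ∈ CharInduce.above M (fun _ : M => (1 : ℂ)) := by
      rw [CharInduce.mem_above, CharInduce.classInner_indFun_left M _ _
        (CharBasic.IsIrr.isClassFunction β'.2), ← CharBasic.classInner_conj_symm, ne_eq,
        map_eq_zero]
      exact (CharInduce.constituent_one_iff M β'.2).2 hβker
    have hone : ((fun _ : M => (1 : ℂ)) * (θ : M → ℂ)) = θ := by funext n; simp
    have hinv : ∀ x : G, CharInduce.conjFun M (θ : M → ℂ) x = θ := fun x => by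
      rw [← her]; exact CharInduce.conjFun_res M (CharBasic.IsIrr.isClassFunction χ.2) x
    have hirr := ((CharInduce.gallagher M CharBasic.isIrrCharacter_one θ.2
      (CharInduce.conjFun_one_char M) hinv (by rw [hone]; exact θ.2) χ.2
      (congrFun her)).1 β' habove).1
    have hdeg : Cfsg.charDegree ((β' : G → ℂ) * (χ : G → ℂ)) =
        Cfsg.charDegree (β : G ⧸ M → ℂ) * c := by
      refine H84.charDegree_of_eq ?_
      rw [Pi.mul_apply, apply_one β', apply_one χ, ← hc, H84.charDegree_inflateIrr, Nat.cast_mul]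
    have hf : Cfsg.charDegree (β : G ⧸ M → ℂ) = a ∨ Cfsg.charDegree (β : G ⧸ M → ℂ) = b :=
      (hd.quotient M β).resolve_left hβ
    obtain ⟨k1, k2⟩ := mul_ne_of_coprime hcop ha hb hχc hf
    have := hd ⟨_, hirr⟩
    rw [hdeg] at this
    rcases this with h | h | h
    · exact hβ (Nat.eq_one_of_mul_eq_one_right h)
    · exact k1 h
    · exact k2 h

end Cfsg.Agent.H30.ThreeDegrees
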