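import Cfsg.Agent.H30.ThreeDegrees.Basic

/-!
# Three coprime character degrees, the derived subgroup perfect
-/

set_option linter.style.haveILetI false
set_option linter.unusedSectionVars false

namespace Cfsg.Agent.H30.ThreeDegrees

open scoped ComplexConjugate commutatorElement
open Cfsg.Agent

universe u

variable {G : Type u} [Group G] [Fintype G]

theorem classInner_mul_left (f g h : G → ℂ) :
    Cfsg.classInner (f * g) h = Cfsg.classInner g ((fun x => conj (f x)) * h) := by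
  simp only [CharBasic.classInner_def, Pi.mul_apply, map_mul, Complex.conj_conj]
  congr 1
  exact Finset.sum_congr rfl fun x _ => by ring

theorem conj_hom_apply (l : G →* ℂˣ) (g : G) : conj (l g : ℂ) = ((l⁻¹ : G →* ℂˣ) g : ℂ) := by
  have h := CharBasic.IsChar.inv_apply (CharInduce.isCharacter_hom l) g
  rw [← h, MonoidHom.inv_apply, map_inv]

/-- The degree of a character, split by the degrees of its constituents. -/
theorem degree_split {a b : ℕ} (hd : DegreesAmong G a b) (ha : a ≠ 1) (hb : b ≠ 1) (hab : a ≠ b)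
    {Φ : G → ℂ} (hΦ : Cfsg.IsCharacter G Φ) {N : ℕ} (hN : Φ 1 = N) :
    ∃ S1 Sa Sb : ℕ, N = S1 + a * Sa + b * Sb ∧
      (∀ ψ : Cfsg.IrrCharacter G, Cfsg.classInner Φ (ψ : G → ℂ) ≠ 0 →
        (Cfsg.charDegree (ψ : G → ℂ) = 1 → 0 < S1) ∧
        (Cfsg.charDegree (ψ : G → ℂ) = a → 0 < Sa) ∧
        (Cfsg.charDegree (ψ : G → ℂ) = b → 0 < Sb)) ∧
      ((∀ ψ : Cfsg.IrrCharacter G, Cfsg.classInner Φ (ψ : G → ℂ) ≠ 0 →
        Cfsg.charDegree (ψ : G → ℂ) ≠ 1) → S1 = 0) := by
  classical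
  choose n hn using fun ψ : Cfsg.IrrCharacter G =>
    CharBasic.classInner_isChar_nat hΦ (CharBasic.IsIrr.isCharacter ψ.2)
  let S : ℕ → ℕ := fun t =>
    ∑ ψ : Cfsg.IrrCharacter G, if Cfsg.charDegree (ψ : G → ℂ) = t then n ψ else 0
  have hpos : ∀ (ψ : Cfsg.IrrCharacter G) (t : ℕ), Cfsg.classInner Φ (ψ : G → ℂ) ≠ 0 →
      Cfsg.charDegree (ψ : G → ℂ) = t → 0 < S t := by
    intro ψ t h ht
    have hn0 : n ψ ≠ 0 := fun h0 => h (by rw [hn, h0, Nat.cast_zero])
    refine lt_of_lt_of_le (Nat.pos_of_ne_zero hn0) ?_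
    refine le_trans (le_of_eq (if_pos ht).symm) (Finset.single_le_sum
      (f := fun φ : Cfsg.IrrCharacter G => if Cfsg.charDegree (φ : G → ℂ) = t then n φ else 0)
      (fun _ _ => Nat.zero_le _) (Finset.mem_univ ψ))
  refine ⟨S 1, S a, S b, ?_, fun ψ h => ⟨hpos ψ 1 h, hpos ψ a h, hpos ψ b h⟩, fun h => ?_⟩
  · have h1 := congrFun (CharBasic.classFunction_expansion (CharBasic.IsChar.isClassFunction hΦ)) 1
    simp only [Finset.sum_apply, Pi.smul_apply, smul_eq_mul, hn, apply_one, hN] at h1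
    have h2 : N = ∑ ψ : Cfsg.IrrCharacter G, n ψ * Cfsg.charDegree (ψ : G → ℂ) := by
      exact_mod_cast h1
    rw [h2]
    simp only [S, Finset.mul_sum, ← Finset.sum_add_distrib]
    refine Finset.sum_congr rfl fun ψ _ => ?_
    rcases hd ψ with e | e | e
    · rw [e, if_pos rfl, if_neg ha.symm, if_neg hb.symm]; simp
    · rw [e, if_neg ha, if_pos rfl, if_neg hab]; simp [mul_comm]
    · rw [e, if_neg hb, if_neg hab.symm, if_pos rfl]; simp [mul_comm]
  · refine Finset.sum_eq_zero fun ψ _ => ?_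
    split_ifs with e
    · by_contra h0
      exact h ψ (by rw [hn]; exact_mod_cast h0) e
    · rfl

/-- A character of degree `a ^ 2` with a constituent of degree `b` has a linear constituent. -/
theorem exists_linear_constituent_sq {a b : ℕ} (hd : DegreesAmong G a b) (ha : 1 < a) (hab : a < b)
    (hcop : a.Coprime b) {Φ : G → ℂ} (hΦ : Cfsg.IsCharacter G Φ) (hN : Φ 1 = (a * a : ℕ))
    {ψ : Cfsg.IrrCharacter G} (hψ : Cfsg.charDegree (ψ : G → ℂ) = b)
    (hne : Cfsg.classInner Φ (ψ : G → ℂ) ≠ 0) :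
    ∃ lam : Cfsg.IrrCharacter G, Cfsg.charDegree (lam : G → ℂ) = 1 ∧
      Cfsg.classInner Φ (lam : G → ℂ) ≠ 0 := by
  by_contra h
  push Not at h
  obtain ⟨S1, Sa, Sb, hsum, hpos, hzero⟩ :=
    degree_split hd ha.ne' (ha.trans hab).ne' hab.ne hΦ hN
  have h1 : S1 = 0 := hzero fun φ hφ e => hφ (h φ e)
  have h2 : 0 < Sb := (hpos ψ hne).2.2 hψ
  subst h1
  have h3 : a ∣ b * Sb := (Nat.dvd_add_right ⟨Sa, rfl⟩).1 ⟨a, by omega⟩
  have h4 : a ≤ Sb := Nat.le_of_dvd h2 (hcop.dvd_of_dvd_mul_left h3)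
  have h5 : a * a < b * Sb := Nat.mul_lt_mul_of_lt_of_le hab h4 (by omega)
  omega

section

variable {a b : ℕ} (hd : DegreesAmong G a b) (ha : 1 < a) (hab : a < b) (hcop : a.Coprime b)
  (hmin : ∀ V : Subgroup G, V.Normal → V ≠ ⊥ → commutator G ≤ V) (hne : commutator G ≠ ⊥)

include hd ha hab hcop hmin hne

/-- No constituent of degree `b` in `χ * conj χ`. -/
theorem classInner_normSq_eq_zero {χ ψ : Cfsg.IrrCharacter G}
    (hχ : Cfsg.charDegree (χ : G → ℂ) = a) (hψ : Cfsg.charDegree (ψ : G → ℂ) = b) :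
    Cfsg.classInner ((χ : G → ℂ) * fun g => conj ((χ : G → ℂ) g)) (ψ : G → ℂ) = 0 := by
  classical
  by_contra hne0
  have hχc := CharBasic.IsIrr.isCharacter χ.2
  set Φ : G → ℂ := (χ : G → ℂ) * (ψ : G → ℂ) with hΦdef
  have hΦ : Cfsg.IsCharacter G Φ := CharInduce.IsChar.mul hχc (CharBasic.IsIrr.isCharacter ψ.2)
  have hΦ1 : Φ 1 = (a * b : ℕ) := by
    rw [hΦdef, Pi.mul_apply, apply_one, apply_one, hχ, hψ, Nat.cast_mul]
  have hχΦ : Cfsg.classInner Φ (χ : G → ℂ) ≠ 0 := by
    rw [hΦdef, classInner_mul_left, ← CharBasic.classInner_conj_symm, ne_eq, map_eq_zero,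
      mul_comm]
    exact hne0
  obtain ⟨S1, Sa, Sb, hsum, hpos, hzero⟩ :=
    degree_split hd ha.ne' (ha.trans hab).ne' hab.ne hΦ hΦ1
  have hlin : ∀ φ : Cfsg.IrrCharacter G, Cfsg.classInner Φ (φ : G → ℂ) ≠ 0 →
      Cfsg.charDegree (φ : G → ℂ) ≠ 1 := by
    intro φ hφ h1
    obtain ⟨l, hl⟩ := exists_hom_of_linear h1
    apply hφ
    rw [hΦdef, classInner_mul_left]
    have he : ((fun g => conj ((χ : G → ℂ) g)) * (φ : G → ℂ)) =
        fun g => (l g : ℂ) * conj ((χ : G → ℂ) g) := by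
      funext g; rw [Pi.mul_apply, hl, mul_comm]
    rw [he]
    refine CharBasic.classInner_irr_of_ne ψ.2
      (CharInduce.isIrr_hom_mul (CharInduce.IsIrr.conj χ.2) l) fun e => ?_
    have h2 := congrFun e 1
    rw [apply_one, apply_one, hψ, hχ, map_one, Units.val_one, one_mul, map_natCast,
      Nat.cast_inj] at h2
    exact hab.ne' h2
  have hS1 : S1 = 0 := hzero hlin
  have hSb : Sb = 0 := by
    by_contra h
    subst hS1
    have h1 : 0 < Sa := (hpos χ hχΦ).2.1 hχ
    have h3 : b ∣ a * Sa := (Nat.dvd_add_left ⟨Sb, rfl⟩).1 ⟨a, by rw [mul_comm b a]; omega⟩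
    have h4 : b ≤ Sa := Nat.le_of_dvd h1 (hcop.symm.dvd_of_dvd_mul_left h3)
    have h5 : a * b ≤ a * Sa := Nat.mul_le_mul_left a h4
    have h6 : 0 < b * Sb := Nat.mul_pos (by omega) (Nat.pos_of_ne_zero h)
    omega
  have hdeg : ∀ φ : Cfsg.IrrCharacter G, Cfsg.classInner Φ (φ : G → ℂ) ≠ 0 →
      Cfsg.charDegree (φ : G → ℂ) = a := by
    intro φ hφ
    rcases hd φ with e | e | e
    · exact absurd e (hlin φ hφ)
    · exact e
    · exact absurd hSb ((hpos φ hφ).2.2 e).ne'
  have hagree : ∀ φ : Cfsg.IrrCharacter G, Cfsg.classInner Φ (φ : G → ℂ) ≠ 0 →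
      ∀ x ∈ commutator G, (φ : G → ℂ) x = (χ : G → ℂ) x := by
    intro φ hφ x hx
    have h1 : Cfsg.classInner ((fun g => conj ((χ : G → ℂ) g)) * (φ : G → ℂ)) (ψ : G → ℂ) ≠ 0 := by
      rw [← CharBasic.classInner_conj_symm, ne_eq, map_eq_zero, ← classInner_mul_left]
      exact hφ
    obtain ⟨lam, hlam, hlamne⟩ := exists_linear_constituent_sq hd ha hab hcop
      (CharInduce.IsChar.mul (CharInduce.IsChar.conj hχc) (CharBasic.IsIrr.isCharacter φ.2))
      (by rw [Pi.mul_apply, apply_one, apply_one, hχ, hdeg φ hφ, map_natCast, Nat.cast_mul])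
      hψ h1
    obtain ⟨l, hl⟩ := exists_hom_of_linear hlam
    rw [classInner_mul_left] at hlamne
    have he : ((fun g => conj (conj ((χ : G → ℂ) g))) * (lam : G → ℂ)) =
        fun g => (l g : ℂ) * (χ : G → ℂ) g := by
      funext g; rw [Pi.mul_apply, hl, Complex.conj_conj, mul_comm]
    rw [he] at hlamne
    have he2 : (φ : G → ℂ) = fun g => (l g : ℂ) * (χ : G → ℂ) g := by
      by_contra hh
      exact hlamne (CharBasic.classInner_irr_of_ne φ.2 (CharInduce.isIrr_hom_mul χ.2 l) hh)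
    have h3 := congrFun he2 x
    rw [H84.eq_one_of_mem_commutator_hom l hx, Units.val_one, one_mul] at h3
    exact h3
  have hval : ∀ x ∈ commutator G, (χ : G → ℂ) x * (ψ : G → ℂ) x = (χ : G → ℂ) x * b := by
    have hexp := CharBasic.classFunction_expansion (CharBasic.IsChar.isClassFunction hΦ)
    have hT : ∀ x ∈ commutator G, Φ x =
        (∑ φ : Cfsg.IrrCharacter G, Cfsg.classInner Φ (φ : G → ℂ)) * (χ : G → ℂ) x := by
      intro x hx
      conv_lhs => rw [hexp]
      simp only [Finset.sum_apply, Pi.smul_apply, smul_eq_mul, Finset.sum_mul]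
      refine Finset.sum_congr rfl fun φ _ => ?_
      by_cases h0 : Cfsg.classInner Φ (φ : G → ℂ) = 0
      · rw [h0, zero_mul, zero_mul]
      · rw [hagree φ h0 x hx]
    have h1 := hT 1 (one_mem _)
    rw [hΦ1, apply_one, hχ, Nat.cast_mul, mul_comm (a : ℂ)] at h1
    have h2 := mul_right_cancel₀ (Nat.cast_ne_zero.2 (by omega : a ≠ 0)) h1
    intro x hx
    have h3 := hT x hx
    rw [← h2, hΦdef, Pi.mul_apply] at h3
    rw [h3, mul_comm]
  obtain ⟨K, hK, hKmem, -⟩ :=
    CharBasic.IsChar.exists_kernel (CharBasic.IsIrr.isCharacter ψ.2)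
  haveI := hK
  by_cases hV : K ⊓ commutator G = ⊥
  · have hzero' : ∀ x ∈ commutator G, x ≠ 1 → (χ : G → ℂ) x = 0 := by
      intro x hx hx1
      by_contra h
      refine hx1 (Subgroup.mem_bot.1 (hV ▸ Subgroup.mem_inf.2 ⟨(hKmem x).2 ?_, hx⟩))
      rw [apply_one, hψ]
      exact mul_left_cancel₀ h (hval x hx)
    haveI := Fintype.ofFinite (commutator G)
    have hcon : Cfsg.classInner (fun n : commutator G => (χ : G → ℂ) n) (fun _ => 1) ≠ 0 := by
      rw [CharBasic.classInner_def, Finset.sum_eq_single (1 : commutator G)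
        (fun n _ hn => by rw [hzero' n n.2 (fun e => hn (Subtype.ext e)), zero_mul])
        (fun h => absurd (Finset.mem_univ _) h), map_one, mul_one, OneMemClass.coe_one]
      exact mul_ne_zero (inv_ne_zero (CharInduce.card_ne_zero_complex _))
        (CharBasic.IsIrr.one_ne_zero χ.2)
    have h1 := charDegree_eq_one_of_commutator χ
      ((CharInduce.constituent_one_iff (commutator G) χ.2).1 hcon)
    omega
  · have hle := hmin _ inferInstance hV
    have h1 := charDegree_eq_one_of_commutator ψ fun x hx =>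
      (hKmem x).1 (hle hx).1
    omega

/-- No constituent of degree `b` in a product of two characters of degree `a`. -/
theorem classInner_mul_eq_zero {χ φ ψ : Cfsg.IrrCharacter G}
    (hχ : Cfsg.charDegree (χ : G → ℂ) = a) (hφ : Cfsg.charDegree (φ : G → ℂ) = a)
    (hψ : Cfsg.charDegree (ψ : G → ℂ) = b) :
    Cfsg.classInner ((χ : G → ℂ) * (φ : G → ℂ)) (ψ : G → ℂ) = 0 := by
  by_contra hne0
  obtain ⟨lam, hlam, hlamne⟩ := exists_linear_constituent_sq hd ha hab hcop
    (CharInduce.IsChar.mul (CharBasic.IsIrr.isCharacter χ.2) (CharBasic.IsIrr.isCharacter φ.2))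
    (by rw [Pi.mul_apply, apply_one, apply_one, hχ, hφ, Nat.cast_mul]) hψ hne0
  obtain ⟨l, hl⟩ := exists_hom_of_linear hlam
  rw [classInner_mul_left] at hlamne
  have he : ((fun g => conj ((χ : G → ℂ) g)) * (lam : G → ℂ)) =
      fun g => (l g : ℂ) * conj ((χ : G → ℂ) g) := by
    funext g; rw [Pi.mul_apply, hl, mul_comm]
  rw [he] at hlamne
  have he2 : (φ : G → ℂ) = fun g => (l g : ℂ) * conj ((χ : G → ℂ) g) := by
    by_contra hh
    exact hlamne (CharBasic.classInner_irr_of_ne φ.2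
      (CharInduce.isIrr_hom_mul (CharInduce.IsIrr.conj χ.2) l) hh)
  apply hne0
  have he3 : ((χ : G → ℂ) * (φ : G → ℂ)) =
      (fun g => (l g : ℂ)) * ((χ : G → ℂ) * fun g => conj ((χ : G → ℂ) g)) := by
    rw [he2]; funext g; simp only [Pi.mul_apply]; ring
  rw [he3, classInner_mul_left]
  have hψ' := CharInduce.isIrr_hom_mul ψ.2 (l⁻¹ : G →* ℂˣ)
  have he4 : ((fun g => conj (l g : ℂ)) * (ψ : G → ℂ)) =
      fun g => ((l⁻¹ : G →* ℂˣ) g : ℂ) * (ψ : G → ℂ) g := by
    funext g; rw [Pi.mul_apply, conj_hom_apply]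
  rw [he4]
  refine classInner_normSq_eq_zero hd ha hab hcop hmin hne hχ (ψ := ⟨_, hψ'⟩)
    (H84.charDegree_of_eq ?_)
  show ((l⁻¹ : G →* ℂˣ) 1 : ℂ) * (ψ : G → ℂ) 1 = b
  rw [map_one, Units.val_one, one_mul, apply_one, hψ]

/-- The span of the characters of degree `1` and `a` separates no two points, absurd. -/
theorem false_of_perfect (hA : ∃ χ : Cfsg.IrrCharacter G, Cfsg.charDegree (χ : G → ℂ) = a)
    (hB : ∃ χ : Cfsg.IrrCharacter G, Cfsg.charDegree (χ : G → ℂ) = b) : False := by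
  classical
  obtain ⟨χ₀, hχ₀⟩ := hA
  obtain ⟨ψ, hψ⟩ := hB
  set S : Set (G → ℂ) := {f | ∃ χ : Cfsg.IrrCharacter G, (χ : G → ℂ) = f ∧
    (Cfsg.charDegree (χ : G → ℂ) = 1 ∨ Cfsg.charDegree (χ : G → ℂ) = a)} with hS
  set W : Submodule ℂ (G → ℂ) := Submodule.span ℂ S with hW
  have hmem : ∀ χ : Cfsg.IrrCharacter G, Cfsg.charDegree (χ : G → ℂ) = 1 ∨
      Cfsg.charDegree (χ : G → ℂ) = a → (χ : G → ℂ) ∈ W := fun χ h =>
    Submodule.subset_span ⟨χ, rfl, h⟩
  have hlinmul : ∀ χ φ : Cfsg.IrrCharacter G, Cfsg.charDegree (χ : G → ℂ) = 1 →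
      (Cfsg.charDegree (φ : G → ℂ) = 1 ∨ Cfsg.charDegree (φ : G → ℂ) = a) →
      (χ : G → ℂ) * (φ : G → ℂ) ∈ W := by
    intro χ φ h1 h2
    obtain ⟨l, hl⟩ := exists_hom_of_linear h1
    have he : (χ : G → ℂ) * (φ : G → ℂ) = fun g => (l g : ℂ) * (φ : G → ℂ) g := by
      funext g; rw [Pi.mul_apply, hl]
    have hdeg : Cfsg.charDegree (fun g => (l g : ℂ) * (φ : G → ℂ) g) =
        Cfsg.charDegree (φ : G → ℂ) := by
      refine H84.charDegree_of_eq ?_
      rw [map_one, Units.val_one, one_mul, apply_one]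
    rw [he]
    exact hmem ⟨_, CharInduce.isIrr_hom_mul φ.2 l⟩ (by simpa only [hdeg] using h2)
  have hgen : ∀ f ∈ S, ∀ g ∈ S, f * g ∈ W := by
    rintro _ ⟨χ, rfl, hχ⟩ _ ⟨φ, rfl, hφ⟩
    rcases hχ with h | h
    · exact hlinmul χ φ h hφ
    rcases hφ with h' | h'
    · rw [mul_comm]; exact hlinmul φ χ h' (Or.inr h)
    rw [CharBasic.classFunction_expansion (CharBasic.IsChar.isClassFunction
      (CharInduce.IsChar.mul (CharBasic.IsIrr.isCharacter χ.2) (CharBasic.IsIrr.isCharacter φ.2)))]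
    refine Submodule.sum_mem _ fun η _ => ?_
    rcases hd η with e | e | e
    · exact Submodule.smul_mem _ _ (hmem η (Or.inl e))
    · exact Submodule.smul_mem _ _ (hmem η (Or.inr e))
    · rw [classInner_mul_eq_zero hd ha hab hcop hmin hne h h' e, zero_smul]
      exact W.zero_mem
  have hmul : ∀ f ∈ W, ∀ g ∈ W, f * g ∈ W := by
    intro f hf g hg
    induction hf using Submodule.span_induction with
    | mem x hx =>
      induction hg using Submodule.span_induction with
      | mem y hy => exact hgen x hx y hy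
      | zero => rw [mul_zero]; exact W.zero_mem
      | add y z _ _ hy hz => rw [mul_add]; exact W.add_mem hy hz
      | smul c y _ hy => rw [mul_smul_comm]; exact W.smul_mem c hy
    | zero => rw [zero_mul]; exact W.zero_mem
    | add x y _ _ hx hy => rw [add_mul]; exact W.add_mem hx hy
    | smul c x _ hx => rw [smul_mul_assoc]; exact W.smul_mem c hx
  have hone : (1 : G → ℂ) ∈ W :=
    hmem ⟨_, CharBasic.isIrrCharacter_one⟩ (Or.inl (H84.charDegree_of_eq Nat.cast_one.symm))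
  have horth : ∀ f ∈ W, Cfsg.classInner f (ψ : G → ℂ) = 0 := by
    intro f hf
    induction hf using Submodule.span_induction with
    | mem x hx =>
      obtain ⟨χ, rfl, hχ⟩ := hx
      refine CharBasic.classInner_irr_of_ne χ.2 ψ.2 fun e => ?_
      rw [e, hψ] at hχ
      rcases hχ with h | h <;> omega
    | zero => simp [CharBasic.classInner_def]
    | add x y _ _ hx hy => rw [CharBasic.classInner_add_left, hx, hy, add_zero]
    | smul c x _ hx => rw [CharBasic.classInner_smul_left, hx, mul_zero]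
  -- separation of the identity
  have hsep : ∀ g : G, g ≠ 1 → ∃ s ∈ W, s g ≠ s 1 := by
    intro g hg
    by_cases hgE : g ∈ commutator G
    · choose K hKn hKmem using fun χ : Cfsg.IrrCharacter G =>
        CharBasic.IsChar.exists_kernel (CharBasic.IsIrr.isCharacter χ.2)
      set V : Subgroup G := ⨅ χ : {χ : Cfsg.IrrCharacter G //
        Cfsg.charDegree (χ : G → ℂ) = a}, K χ.1 with hVdef
      by_contra hno
      push Not at hno
      have hVg : g ∈ V := by
        rw [hVdef, Subgroup.mem_iInf]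
        exact fun χ => ((hKmem χ.1).1 g).2 (hno _ (hmem χ.1 (Or.inr χ.2)))
      have hVn : V.Normal := Subgroup.normal_iInf_normal fun χ => hKn χ.1
      have hle := hmin V hVn fun h => hg (Subgroup.mem_bot.1 (h ▸ hVg))
      have h1 := charDegree_eq_one_of_commutator χ₀ fun x hx =>
        ((hKmem χ₀).1 x).1 (Subgroup.mem_iInf.1 (hle hx) ⟨χ₀, hχ₀⟩)
      omega
    · have h1 : Abelianization.of g ≠ 1 := fun h => hgE ((QuotientGroup.eq_one_iff g).1 h)
      obtain ⟨l, hl⟩ := CommGroup.exists_apply_ne_one_of_hasEnoughRootsOfUnity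
        (Abelianization G) ℂ h1
      refine ⟨_, hmem ⟨_, CharInduce.isIrrCharacter_hom (l.comp Abelianization.of)⟩
        (Or.inl (H84.charDegree_of_eq (by
          show (((l.comp Abelianization.of) 1 : ℂˣ) : ℂ) = _
          rw [map_one, Units.val_one, Nat.cast_one]))), ?_⟩
      intro e
      refine hl (Units.ext ?_)
      simpa using e
  choose! s hsW hs using hsep
  set δ : G → ℂ := ∏ g ∈ Finset.univ.erase (1 : G),
    (s g 1 - s g g)⁻¹ • (s g - s g g • (1 : G → ℂ)) with hδ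
  have hδW : δ ∈ W := by
    refine Finset.prod_induction _ (· ∈ W) (fun f g hf hg => hmul f hf g hg) hone fun g hg => ?_
    exact W.smul_mem _ (W.sub_mem (hsW g (Finset.ne_of_mem_erase hg)) (W.smul_mem _ hone))
  have hδ1 : δ 1 = 1 := by
    rw [hδ, Finset.prod_apply]
    refine Finset.prod_eq_one fun g hg => ?_
    simp only [Pi.smul_apply, Pi.sub_apply, smul_eq_mul, Pi.one_apply, mul_one]
    exact inv_mul_cancel₀ (sub_ne_zero.2 (hs g (Finset.ne_of_mem_erase hg)).symm)
  have hδg : ∀ g : G, g ≠ 1 → δ g = 0 := by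
    intro g hg
    rw [hδ, Finset.prod_apply]
    refine Finset.prod_eq_zero (Finset.mem_erase.2 ⟨hg, Finset.mem_univ g⟩) ?_
    simp
  have h := horth δ hδW
  rw [CharBasic.classInner_def, Finset.sum_eq_single (1 : G)
    (fun g _ hg => by rw [hδg g hg, zero_mul]) (fun h => absurd (Finset.mem_univ _) h),
    hδ1, one_mul, apply_one, hψ, map_natCast] at h
  exact mul_ne_zero (inv_ne_zero (CharInduce.card_ne_zero_complex G))
    (Nat.cast_ne_zero.2 (show b ≠ 0 by omega)) h

end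

end Cfsg.Agent.H30.ThreeDegrees
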