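import Cfsg.Agent.H30.ThreeDegrees.CommonPrime
import Cfsg.Agent.H30.ThreeDegrees.Imperfect
import Cfsg.Agent.H30.ThreeDegrees.Perfect

/-!
# Groups with three character degrees have derived length at most three
-/

set_option linter.style.haveILetI false
set_option linter.unusedSectionVars false

namespace Cfsg.Agent.H30.ThreeDegrees

open scoped commutatorElement
open Cfsg.Agent

universe u

theorem derivedSeries_three_aux (n : ℕ) : ∀ (G : Type u) [Group G] [Finite G], Nat.card G = n →
    ∀ a b : ℕ, DegreesAmong G a b → derivedSeries G 3 = ⊥ := by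
  induction n using Nat.strong_induction_on with
  | _ n ih =>
    intro G _ _ hn a b hd
    classical
    cases nonempty_fintype G
    have ih' : ∀ (H : Type u) [Group H] [Finite H], Nat.card H < Nat.card G →
        ∀ a b : ℕ, DegreesAmong H a b → derivedSeries H 3 = ⊥ :=
      fun H _ _ hlt => ih _ (hn ▸ hlt) H rfl
    by_cases hlin : ∀ χ : Cfsg.IrrCharacter G, Cfsg.charDegree (χ : G → ℂ) = 1
    · exact derivedSeries_three_of_linear hlin
    push Not at hlin
    by_cases hp : ∃ p : ℕ, p.Prime ∧ ∀ χ : Cfsg.IrrCharacter G,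
        Cfsg.charDegree (χ : G → ℂ) ≠ 1 → p ∣ Cfsg.charDegree (χ : G → ℂ)
    · obtain ⟨p, hpp, hdiv⟩ := hp
      exact derivedSeries_three_of_common_prime hpp hd hdiv hlin ih'
    push Not at hp
    obtain ⟨χ₁, h₁⟩ := hlin
    -- order the two degrees
    suffices key : ∀ a b : ℕ, DegreesAmong G a b → a < b → 1 < a → a.Coprime b →
        (∃ χ : Cfsg.IrrCharacter G, Cfsg.charDegree (χ : G → ℂ) = a) →
        (∃ χ : Cfsg.IrrCharacter G, Cfsg.charDegree (χ : G → ℂ) = b) →
        derivedSeries G 3 = ⊥ by
      have hocc : ∀ a b : ℕ, DegreesAmong G a b → Cfsg.charDegree (χ₁ : G → ℂ) = a →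
          derivedSeries G 3 = ⊥ := by
        intro a b hd e
        have ha : 1 < a := by have := charDegree_pos χ₁; omega
        obtain ⟨p, hpp, hpa⟩ := Nat.exists_prime_and_dvd ha.ne'
        obtain ⟨χ₂, h₂, h₂p⟩ := hp p hpp
        have e₂ : Cfsg.charDegree (χ₂ : G → ℂ) = b :=
          ((hd χ₂).resolve_left h₂).resolve_left fun h => h₂p (h ▸ hpa)
        have hb : 1 < b := by have := charDegree_pos χ₂; omega
        have hcop : a.Coprime b := Nat.coprime_of_dvd fun r hr hra hrb => by
          obtain ⟨χ₃, h₃, h₃p⟩ := hp r hr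
          rcases (hd χ₃).resolve_left h₃ with h | h
          · exact h₃p (h ▸ hra)
          · exact h₃p (h ▸ hrb)
        rcases lt_trichotomy a b with h | h | h
        · exact key a b hd h ha hcop ⟨χ₁, e⟩ ⟨χ₂, e₂⟩
        · exact absurd hpa (h ▸ e₂ ▸ h₂p)
        · exact key b a hd.symm h hb hcop.symm ⟨χ₂, e₂⟩ ⟨χ₁, e⟩
      rcases (hd χ₁).resolve_left h₁ with e | e
      · exact hocc a b hd e
      · exact hocc b a hd.symm e
    intro a b hd hab ha hcop hA hB
    by_cases hperf : derivedSeries G 1 ≤ derivedSeries G 2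
    swap
    · exact derivedSeries_three_of_imperfect hd ha (ha.trans hab) hcop hA hB hperf
    exfalso
    have heq : derivedSeries G 2 = derivedSeries G 1 :=
      le_antisymm (derivedSeries_antitone G one_le_two) hperf
    have heq3 : derivedSeries G 3 = derivedSeries G 1 := by
      rw [derivedSeries_succ, heq, ← derivedSeries_succ, heq]
    have hne : commutator G ≠ ⊥ := by
      intro h
      obtain ⟨χ, hχ⟩ := hA
      have := charDegree_eq_one_of_commutator χ fun x hx => by
        rw [h, Subgroup.mem_bot] at hx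
        rw [hx]
      omega
    have hmin : ∀ V : Subgroup G, V.Normal → V ≠ ⊥ → commutator G ≤ V := by
      intro V hVn hV
      haveI := hVn
      have hlt : Nat.card (G ⧸ V) < Nat.card G := by
        rw [← Subgroup.index_eq_card, ← V.card_mul_index]
        exact lt_mul_left (Nat.pos_of_ne_zero Subgroup.index_ne_zero_of_finite)
          ((Subgroup.one_lt_card_iff_ne_bot V).2 hV)
      rw [← derivedSeries_one, ← heq3]
      exact derivedSeries_le_of_quotient V (ih' (G ⧸ V) hlt a b (hd.quotient V))
    exact false_of_perfect hd ha hab hcop hmin hne hA hB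

/-- At most three character degrees give derived length at most `3`. -/
theorem derivedSeries_three_of_card {G : Type u} [Group G] [Finite G]
    (hcd : Nat.card {n : ℕ // ∃ χ : Cfsg.IrrCharacter G, Cfsg.charDegree (χ : G → ℂ) = n} = 3) :
    derivedSeries G 3 = ⊥ := by
  classical
  cases nonempty_fintype G
  set S : Set ℕ := {n | ∃ χ : Cfsg.IrrCharacter G, Cfsg.charDegree (χ : G → ℂ) = n}
  have hS : S.ncard = 3 := by rw [← Nat.card_coe_set_eq]; exact hcd
  obtain ⟨x, y, z, -, -, -, hxyz⟩ := Set.ncard_eq_three.1 hS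
  have h1 : (1 : ℕ) ∈ S :=
    ⟨⟨_, CharBasic.isIrrCharacter_one⟩, H84.charDegree_of_eq Nat.cast_one.symm⟩
  have hin : ∀ χ : Cfsg.IrrCharacter G, Cfsg.charDegree (χ : G → ℂ) = x ∨
      Cfsg.charDegree (χ : G → ℂ) = y ∨ Cfsg.charDegree (χ : G → ℂ) = z := fun χ => by
    have : Cfsg.charDegree (χ : G → ℂ) ∈ S := ⟨χ, rfl⟩
    rwa [hxyz] at this
  rw [hxyz] at h1
  rcases h1 with h | h | h <;> (first | subst h | (rw [Set.mem_singleton_iff] at h; subst h))
  · exact derivedSeries_three_aux _ G rfl y z hin
  · exact derivedSeries_three_aux _ G rfl x z fun χ => by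
      rcases hin χ with e | e | e <;> simp [e]
  · exact derivedSeries_three_aux _ G rfl x y fun χ => by
      rcases hin χ with e | e | e <;> simp [e]

end Cfsg.Agent.H30.ThreeDegrees
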